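import Groth.Agent.Cohen.CohenRing
import Groth.Agent.ArtKit.PSRing
import Groth.Agent.CMFlat.Quotient
import Groth.Agent.CMFlat.Localization
import Groth.Agent.Catenary.CM
import Groth.Agent.S0579

/-!
# Cohen's structure theorem and universal catenarity of complete local rings
-/

set_option autoImplicit false
set_option linter.style.haveILetI false
universe u

open IsLocalRing

namespace Groth.Agent.Cohen

theorem isRegularLocalRing_powerSeries (T : Type u) [CommRing T] [IsRegularLocalRing T] :
    IsRegularLocalRing (PowerSeries T) := by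
  haveI : IsLocalRing (PowerSeries T) := inferInstanceAs (IsLocalRing (MvPowerSeries Unit T))
  refine IsRegularLocalRing.of_spanFinrank_maximalIdeal_le _ ?_
  obtain ⟨s, hs, hspan⟩ := Submodule.FG.exists_span_set_encard_eq_spanFinrank
    (IsNoetherian.noetherian (maximalIdeal T))
  have hfin : s.Finite := Set.finite_of_encard_eq_coe hs
  have hle : maximalIdeal (PowerSeries T) ≤ Ideal.span (insert PowerSeries.X (PowerSeries.C '' s)) := by
    intro f hf
    have h0 : PowerSeries.constantCoeff f ∈ maximalIdeal T := fun hu =>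
      hf (PowerSeries.isUnit_iff_constantCoeff.mpr hu)
    obtain ⟨g, hg⟩ := (PowerSeries.X_dvd_iff (φ := f - PowerSeries.C (PowerSeries.constantCoeff f))).mpr (by simp)
    rw [← sub_add_cancel f (PowerSeries.C (PowerSeries.constantCoeff f)), hg]
    refine add_mem (Ideal.mul_mem_right _ _ (Ideal.subset_span (Set.mem_insert _ _))) ?_
    have h1 : PowerSeries.C (PowerSeries.constantCoeff f) ∈ (Ideal.span s).map (PowerSeries.C : T →+* PowerSeries T) :=
      Ideal.mem_map_of_mem _ (hspan.ge h0)
    rw [Ideal.map_span] at h1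
    exact Ideal.span_mono (Set.subset_insert _ _) h1
  have hge : maximalIdeal (PowerSeries T) = Ideal.span (insert PowerSeries.X (PowerSeries.C '' s)) := by
    refine le_antisymm hle (Ideal.span_le.mpr ?_)
    rintro z (rfl | ⟨a, ha, rfl⟩) hu
    · have := PowerSeries.isUnit_iff_constantCoeff.mp hu
      rw [PowerSeries.constantCoeff_X] at this
      exact not_isUnit_zero this
    · have := PowerSeries.isUnit_iff_constantCoeff.mp hu
      rw [PowerSeries.constantCoeff_C] at this
      exact (hspan.le (Submodule.subset_span ha)) this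
  have h2 : (maximalIdeal (PowerSeries T)).spanFinrank ≤ (maximalIdeal T).spanFinrank + 1 := by
    rw [hge]
    refine (Submodule.spanFinrank_span_le_ncard_of_finite ((hfin.image _).insert _)).trans
      ((Set.ncard_insert_le _ _).trans (Nat.add_le_add_right ((Set.ncard_image_le hfin).trans (le_of_eq ?_)) 1))
    rw [Set.ncard, hs, ENat.toNat_coe]
  refine (Nat.cast_le.mpr h2).trans ?_
  push_cast
  rw [IsRegularLocalRing.spanFinrank_maximalIdeal]
  exact ringKrullDim_succ_le_of_surjective (PowerSeries.constantCoeff (R := T))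
    (fun a => ⟨PowerSeries.C a, PowerSeries.constantCoeff_C a⟩)
    (MvPowerSeries.X_mem_nonzeroDivisors (i := ())) (by exact PowerSeries.constantCoeff_X)

theorem isRegularLocalRing_mvPowerSeries (T : Type u) [CommRing T] [IsRegularLocalRing T] :
    ∀ n, IsRegularLocalRing (MvPowerSeries (Fin n) T) := by
  intro n
  induction n with
  | zero => exact IsRegularLocalRing.of_ringEquiv (MvPowerSeries.isEmptyEquiv (Fin 0) T).toRingEquiv.symm
  | succ n ih =>
    haveI := ih
    haveI := isRegularLocalRing_powerSeries (MvPowerSeries (Fin n) T)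
    exact IsRegularLocalRing.of_ringEquiv (MvPowerSeries.finSuccEquiv T n).toRingEquiv.symm

theorem exists_cohenRing (p : ℕ) [Fact p.Prime] (k : Type u) [Field k] [CharP k p] :
    ∃ (Λ : Type u) (_ : CommRing Λ) (_ : IsLocalRing Λ), CAlg.IsCohenRing Λ ∧
      Nonempty (ResidueField Λ ≃+* k) ∧
      ∀ (R : Type u) [CommRing R] (π : R →+* k), Function.Surjective π → IsAdicComplete (RingHom.ker π) R →
        ∃ θ : Λ →+* R, Function.Surjective (π.comp θ) := by
  obtain ⟨B, hB, hgen⟩ := exists_indep_generating p (k := k)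
  obtain ⟨hloc, hcoh, r, hr, hr0⟩ := isCohenRing_C p (indep_all p hB) hgen
  haveI := hloc
  refine ⟨C p B, inferInstance, hloc, hcoh, ?_, fun R _ π hπ hR => ?_⟩
  · have hk : RingHom.ker r = maximalIdeal (C p B) := eq_maximalIdeal (RingHom.ker_isMaximal_of_surjective r hr)
    exact ⟨(Ideal.quotEquivOfEq hk.symm).trans (RingHom.quotientKerEquivOfSurjective hr)⟩
  · obtain ⟨θ, hθ⟩ := exists_lift p (indep_all p hB) π hπ
    refine ⟨θ, fun a => ?_⟩
    obtain ⟨x, rfl⟩ := hr a
    exact ⟨x, (PerfectClosure.of k p).injective ((hθ x).trans (hr0 x).symm)⟩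

theorem exists_coefficients (R : Type u) [CommRing R] [IsLocalRing R] [IsAdicComplete (maximalIdeal R) R] :
    ∃ (Λ : Type u) (_ : CommRing Λ), (IsField Λ ∨ CAlg.IsCohenRing Λ) ∧
      ∃ g : Λ →+* R, Function.Surjective ((residue R).comp g) := by
  obtain ⟨q, hq⟩ := CharP.exists (ResidueField R)
  rcases CharP.char_is_prime_or_zero (ResidueField R) q with hp | h0
  · haveI := Fact.mk hp
    obtain ⟨Λ, _, _, hcoh, -, hlift⟩ := exists_cohenRing q (ResidueField R)
    haveI : IsAdicComplete (RingHom.ker (residue R)) R := by rw [IsLocalRing.ker_residue]; infer_instance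
    obtain ⟨θ, hθ⟩ := hlift R (residue R) residue_surjective inferInstance
    exact ⟨Λ, inferInstance, Or.inr hcoh, θ, hθ⟩
  · subst h0
    haveI : CharZero (ResidueField R) := CharP.charP_to_charZero _
    obtain ⟨s, hs⟩ := Groth.Agent.S0579.result R
    exact ⟨ResidueField R, inferInstance, Or.inl (Field.toIsField _), s, fun a => ⟨a, DFunLike.congr_fun hs a⟩⟩

theorem exists_presentation (R : Type u) [CommRing R] [IsLocalRing R] [IsAdicComplete (maximalIdeal R) R]
    (hfg : (maximalIdeal R).FG) :
    ∃ (Λ : Type u) (_ : CommRing Λ) (n : ℕ) (f : MvPowerSeries (Fin n) Λ →+* R),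
      (IsField Λ ∨ CAlg.IsCohenRing Λ) ∧ Function.Surjective f := by
  obtain ⟨Λ, _, hΛ, g, hg⟩ := exists_coefficients R
  obtain ⟨n, v, hv⟩ := Submodule.fg_iff_exists_fin_generating_family.mp hfg
  letI := g.toAlgebra
  have hvm : ∀ i, v i ∈ maximalIdeal R := fun i => hv ▸ Submodule.subset_span ⟨i, rfl⟩
  obtain ⟨ψ, hψ⟩ := ArtKit.exists_evalAdic (R := Λ) (maximalIdeal R) v hvm
  refine ⟨Λ, inferInstance, n, ψ.toRingHom, hΛ, ?_⟩
  let I : Ideal (MvPowerSeries (Fin n) Λ) := Ideal.span (Set.range MvPowerSeries.X)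
  have hI : I.map ψ.toRingHom = maximalIdeal R := by
    rw [Ideal.map_span, ← Set.range_comp, show ψ.toRingHom ∘ MvPowerSeries.X = v from funext hψ]
    exact hv
  haveI : IsAdicComplete I (MvPowerSeries (Fin n) Λ) := inferInstance
  haveI : IsHausdorff (I.map ψ.toRingHom) R := by rw [hI]; infer_instance
  refine surjective_of_mk_map_comp_surjective (I := I) ψ.toRingHom fun z => ?_
  obtain ⟨z, rfl⟩ := Ideal.Quotient.mk_surjective z
  obtain ⟨c, hc⟩ := hg (residue R z)
  refine ⟨algebraMap Λ _ c, ?_⟩
  rw [RingHom.comp_apply, AlgHom.toRingHom_eq_coe, RingHom.coe_coe, AlgHom.commutes, Ideal.Quotient.eq]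
  have hc' : g c - z ∈ maximalIdeal R := Ideal.Quotient.eq.mp hc
  exact hI ▸ hc'

theorem isRegularLocalRing_coeff {Λ : Type u} [CommRing Λ] (hΛ : IsField Λ ∨ CAlg.IsCohenRing Λ) :
    IsRegularLocalRing Λ := by
  rcases hΛ with hf | ⟨hd, hdvr, -⟩
  · letI := hf.toField
    haveI : IsLocalRing Λ := inferInstance
    infer_instance
  · infer_instance

/-- Complete Noetherian local rings are universally catenary. -/
theorem isUniversallyCatenary_of_complete (R : Type u) [CommRing R] [IsLocalRing R] [IsNoetherianRing R]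
    [IsAdicComplete (maximalIdeal R) R] : CAlg.IsUniversallyCatenary R := by
  obtain ⟨Λ, _, n, f, hΛ, hf⟩ := exists_presentation R (IsNoetherian.noetherian _)
  haveI := isRegularLocalRing_coeff hΛ
  haveI := isRegularLocalRing_mvPowerSeries Λ n
  haveI := CMFlat.isCohenMacaulayLocalRing_of_isRegularLocalRing (MvPowerSeries (Fin n) Λ)
  haveI : LocCoh.IsCohenMacaulayRing (MvPowerSeries (Fin n) Λ) :=
    { isCohenMacaulayLocalRing_localization := fun q _ => CMFlat.isCohenMacaulayLocalRing_atPrime _ q }
  letI := f.toAlgebra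
  haveI : Algebra.FiniteType (MvPowerSeries (Fin n) Λ) R :=
    Algebra.FiniteType.of_surjective (Algebra.ofId _ _) hf
  exact Catenary.isUniversallyCatenary_of_finiteType (Catenary.isUniversallyCatenary_of_cm (MvPowerSeries (Fin n) Λ))

end Groth.Agent.Cohen
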