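import Groth.Agent.Cohen.Structure
import Groth.Agent.AdicBasics.Dimension
import Groth.Agent.AdicBasics.LocalMap
import Groth.Agent.Catenary.Flat
import Groth.Prelude.Def_EGA4b

/-!
# Completion of a quotient
-/

set_option autoImplicit false
set_option linter.style.haveILetI false
universe u

open IsLocalRing

namespace Groth.Agent.Cohen

variable {A B : Type u} [CommRing A] [CommRing B] [IsLocalRing A] [IsLocalRing B]
  [IsNoetherianRing A] [IsNoetherianRing B]

theorem eval_mem_pow {n : ℕ} {a : A}
    (h : algebraMap A (AdicCompletion (maximalIdeal A) A) a ∈ maximalIdeal (AdicCompletion (maximalIdeal A) A) ^ n) :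
    a ∈ maximalIdeal A ^ n := by
  rw [AdicCompletion.maximalIdeal_eq_map, ← Ideal.map_pow] at h
  have h1 : (maximalIdeal A ^ n).map (algebraMap A (AdicCompletion (maximalIdeal A) A)) ≤
      RingHom.ker (AdicCompletion.evalₐ (maximalIdeal A) n).toRingHom := Ideal.map_le_iff_le_comap.mpr fun r hr => by
    show AdicCompletion.evalₐ (maximalIdeal A) n (algebraMap A _ r) = 0
    rw [AlgHom.commutes]
    exact Ideal.Quotient.eq_zero_iff_mem.mpr hr
  have h2 : AdicCompletion.evalₐ (maximalIdeal A) n (algebraMap A _ a) = 0 := h1 h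
  rw [AlgHom.commutes] at h2
  exact Ideal.Quotient.eq_zero_iff_mem.mp h2

theorem exists_sub_mem_pow (x : AdicCompletion (maximalIdeal A) A) (n : ℕ) :
    ∃ a : A, x - algebraMap A _ a ∈ maximalIdeal (AdicCompletion (maximalIdeal A) A) ^ n := by
  obtain ⟨a, ha⟩ := Ideal.Quotient.mk_surjective (AdicCompletion.evalₐ (maximalIdeal A) n x)
  refine ⟨a, ?_⟩
  have h0 : AdicCompletion.eval (maximalIdeal A) A n (x - algebraMap A _ a) = 0 := by
    rw [← AdicCompletion.factor_evalₐ_eq_eval _ _ (by simp : maximalIdeal A ^ n ≤ maximalIdeal A ^ n • ⊤), map_sub,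
      AlgHom.commutes, ← ha]
    exact (congrArg _ (sub_self _)).trans (map_zero _)
  have h1 : x - algebraMap A _ a ∈
      (maximalIdeal A ^ n • ⊤ : Submodule A (AdicCompletion (maximalIdeal A) A)) := by
    rw [AdicCompletion.pow_smul_top_eq_ker_eval (maximalIdeal A).fg_of_isNoetherianRing]
    exact h0
  rw [Ideal.smul_top_eq_map] at h1
  rw [AdicCompletion.maximalIdeal_eq_map, ← Ideal.map_pow]
  exact h1

/-- The completion of a quotient. -/
theorem exists_quotient_equiv (φ : A →+* B) (hφ : Function.Surjective φ) :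
    Nonempty (AdicCompletion (maximalIdeal A) A ⧸ (RingHom.ker φ).map (algebraMap A (AdicCompletion (maximalIdeal A) A))
      ≃+* AdicCompletion (maximalIdeal B) B) := by
  haveI : IsLocalHom φ := IsLocalHom.of_surjective φ hφ
  let A' := AdicCompletion (maximalIdeal A) A
  let B' := AdicCompletion (maximalIdeal B) B
  have hmap : (maximalIdeal A).map φ ≤ maximalIdeal B := Ideal.map_le_iff_le_comap.mpr fun a ha hu => ha
    (isUnit_of_map_unit φ a hu)
  have hle : ∀ n, maximalIdeal A ^ n ≤ (maximalIdeal B' ^ n).comap ((algebraMap B B').comp φ) := fun n => by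
    rw [← Ideal.map_le_iff_le_comap, ← Ideal.map_map, AdicCompletion.maximalIdeal_eq_map, ← Ideal.map_pow]
    refine Ideal.map_mono ?_
    rw [Ideal.map_pow]
    exact Ideal.pow_right_mono hmap n
  let f : ∀ n, A' →+* B' ⧸ maximalIdeal B' ^ n := fun n =>
    (Ideal.quotientMap _ _ (hle n)).comp (AdicCompletion.evalₐ (maximalIdeal A) n).toRingHom
  have hf : ∀ n x, ∀ a : A, x - algebraMap A A' a ∈ maximalIdeal A' ^ n → f n x = Ideal.Quotient.mk _ (algebraMap B B' (φ a)) := by
    intro n x a hxa
    have : f n (x - algebraMap A A' a) = 0 := by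
      have h1 : maximalIdeal A' ^ n ≤ RingHom.ker (f n) := by
        rw [AdicCompletion.maximalIdeal_eq_map, ← Ideal.map_pow, Ideal.map_le_iff_le_comap]
        intro r hr
        show (Ideal.quotientMap _ _ (hle n)) (AdicCompletion.evalₐ (maximalIdeal A) n (algebraMap A A' r)) = 0
        rw [AlgHom.commutes]
        show (Ideal.quotientMap _ _ (hle n)) (Ideal.Quotient.mk _ r) = 0
        rw [Ideal.Quotient.eq_zero_iff_mem.mpr hr, map_zero]
      exact h1 hxa
    rw [map_sub, sub_eq_zero] at this
    rw [this]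
    show (Ideal.quotientMap _ _ (hle n)) (AdicCompletion.evalₐ (maximalIdeal A) n (algebraMap A A' a)) = _
    rw [AlgHom.commutes]
    rfl
  have hcompat : ∀ {m n : ℕ} (h : m ≤ n), (Ideal.Quotient.factorPow (maximalIdeal B') h).comp (f n) = f m :=
    fun {m n} h => RingHom.ext fun x => by
      obtain ⟨a, ha⟩ := exists_sub_mem_pow x n
      rw [RingHom.comp_apply, hf n x a ha, hf m x a (Ideal.pow_le_pow_right h ha)]
      exact Ideal.Quotient.factor_mk _ _
  let ψ := IsAdicComplete.liftRingHom (maximalIdeal B') f hcompat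
  have hψ : ψ.comp (algebraMap A A') = (algebraMap B B').comp φ := RingHom.ext fun a => by
    refine sub_eq_zero.mp (IsHausdorff.haus' (I := maximalIdeal B') _ fun n => ?_)
    rw [SModEq.sub_mem, sub_zero, smul_eq_mul, Ideal.mul_top, ← Ideal.Quotient.eq, RingHom.comp_apply,
      IsAdicComplete.mk_liftRingHom, hf n _ a (by simp)]
    rfl
  have hcot : maximalIdeal B ≤ Ideal.map φ (maximalIdeal A) ⊔ maximalIdeal B ^ 2 := le_sup_of_le_left fun b hb => by
    obtain ⟨a, rfl⟩ := hφ b
    exact Ideal.mem_map_of_mem _ fun hu => hb (hu.map φ)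
  have hk : Function.Surjective (ResidueField.map φ) := fun z => by
    obtain ⟨b, rfl⟩ := residue_surjective z
    obtain ⟨a, rfl⟩ := hφ b
    exact ⟨residue A a, ResidueField.map_residue φ a⟩
  have hsurj := AdicBasics.surjective_of_cotangent φ ψ hψ hk hcot
  have hker : RingHom.ker ψ = (RingHom.ker φ).map (algebraMap A A') := by
    refine le_antisymm (fun x hx => ?_) (Ideal.map_le_iff_le_comap.mpr fun a ha => ?_)
    · let N := A' ⧸ (RingHom.ker φ).map (algebraMap A A')
      have h0 : Ideal.Quotient.mk ((RingHom.ker φ).map (algebraMap A A')) x ∈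
          (⨅ i : ℕ, maximalIdeal A' ^ i • ⊤ : Submodule A' N) := by
        rw [Submodule.mem_iInf]
        intro n
        obtain ⟨a, ha⟩ := exists_sub_mem_pow x n
        have h1 : algebraMap B B' (φ a) ∈ maximalIdeal B' ^ n := by
          rw [← Ideal.Quotient.eq_zero_iff_mem, ← hf n x a ha, ← IsAdicComplete.mk_liftRingHom (maximalIdeal B') f hcompat,
            show ψ x = 0 from hx, map_zero]
        have h2 : φ a ∈ (maximalIdeal A ^ n).map φ := by
          rw [Ideal.map_pow, show (maximalIdeal A).map φ = maximalIdeal B from le_antisymm hmap fun b hb => by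
            obtain ⟨c, rfl⟩ := hφ b
            exact Ideal.mem_map_of_mem _ fun hu => hb (hu.map φ)]
          exact eval_mem_pow h1
        obtain ⟨c, hc, hca⟩ := (Ideal.mem_map_iff_of_surjective φ hφ).mp h2
        have h3 : x - algebraMap A A' (a - c) ∈ maximalIdeal A' ^ n := by
          rw [map_sub, ← sub_add]
          refine add_mem ha ?_
          rw [AdicCompletion.maximalIdeal_eq_map, ← Ideal.map_pow]
          exact Ideal.mem_map_of_mem _ hc
        have h4 : Ideal.Quotient.mk ((RingHom.ker φ).map (algebraMap A A')) x =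
            (x - algebraMap A A' (a - c)) • (1 : N) := by
          rw [Algebra.smul_def, mul_one, Ideal.Quotient.algebraMap_eq, Ideal.Quotient.eq, sub_sub_cancel]
          exact Ideal.mem_map_of_mem _ (by rw [RingHom.mem_ker, map_sub, hca, sub_self])
        rw [h4]
        exact Submodule.smul_mem_smul h3 trivial
      rw [Ideal.iInf_pow_smul_eq_bot_of_isLocalRing (M := N) (maximalIdeal A') (maximalIdeal.isMaximal A').ne_top] at h0
      exact Ideal.Quotient.eq_zero_iff_mem.mp h0
    · show ψ (algebraMap A A' a) = 0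
      rw [← RingHom.comp_apply, hψ, RingHom.comp_apply, RingHom.mem_ker.mp ha, map_zero]
  exact ⟨(Ideal.quotEquivOfEq hker.symm).trans (RingHom.quotientKerEquivOfSurjective hsurj)⟩

end Groth.Agent.Cohen
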