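import Groth.Agent.Cohen.Completion
import Groth.Agent.Catenary.DimFormula
import Mathlib.RingTheory.Flat.EquationalCriterion
import Mathlib.RingTheory.IntegralClosure.IsIntegral.Basic
import Mathlib.RingTheory.Ideal.GoingUp

/-!
# Universally catenary local rings are formally catenary (Ratliff)
-/

set_option autoImplicit false
set_option linter.style.haveILetI false
universe u

open IsLocalRing

namespace Groth.Agent.Cohen

local notation "Ĉ" T => AdicCompletion (maximalIdeal T) T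

theorem isEquidim_of_ringEquiv {A B : Type u} [CommRing A] [CommRing B] (e : A ≃+* B)
    (h : EGA4.IsEquidim A) : EGA4.IsEquidim B := fun p hp => by
  have hker : (⊥ : Ideal B).comap e.toRingHom = ⊥ := by
    ext x
    simp
  have hmem : p.comap e.toRingHom ∈ minimalPrimes A := by
    show _ ∈ (⊥ : Ideal A).minimalPrimes
    rw [← hker, Ideal.comap_minimalPrimes_eq_of_surjective e.surjective]
    exact ⟨p, hp, rfl⟩
  rw [← ringKrullDim_eq_of_ringEquiv e, ← h _ hmem]
  exact (ringKrullDim_eq_of_ringEquiv (Ideal.quotientEquiv (p.comap e.toRingHom) p e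
    (Ideal.map_comap_of_surjective e.toRingHom e.surjective p).symm)).symm

/-- Height and codimension between two primes of a catenary local ring. -/
theorem exists_height_add {S : Type u} [CommRing S] [IsLocalRing S] [IsNoetherianRing S]
    (hS : CAlg.IsCatenary S) {Q P : Ideal S} [Q.IsPrime] [P.IsPrime] (hQP : Q ≤ P) :
    ∃ d e h : ℕ, ringKrullDim (S ⧸ Q) = (d : WithBot ℕ∞) ∧ ringKrullDim (S ⧸ P) = (e : WithBot ℕ∞) ∧
      (P.map (Ideal.Quotient.mk Q)).height = h ∧ e + h = d ∧ (h = 0 → P = Q) := by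
  haveI : Nontrivial (S ⧸ Q) := Ideal.Quotient.nontrivial_iff.mpr (Ideal.IsPrime.ne_top inferInstance)
  haveI : Nontrivial (S ⧸ P) := Ideal.Quotient.nontrivial_iff.mpr (Ideal.IsPrime.ne_top inferInstance)
  haveI hPQ : (P.map (Ideal.Quotient.mk Q)).IsPrime :=
    Ideal.map_isPrime_of_surjective Ideal.Quotient.mk_surjective (by rwa [Ideal.mk_ker])
  obtain ⟨d, hd⟩ := SerreReg.exists_dim_nat (S ⧸ Q)
  obtain ⟨e, he⟩ := SerreReg.exists_dim_nat (S ⧸ P)
  obtain ⟨h, hh⟩ := ENat.ne_top_iff_exists.mp ((P.map (Ideal.Quotient.mk Q)).height_ne_top_of_isPrime)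
  have hadd := Catenary.dim_domain_add (Catenary.isCatenary_of_surjective _ Ideal.Quotient.mk_surjective hS)
    (P.map (Ideal.Quotient.mk Q))
  rw [ringKrullDim_eq_of_ringEquiv (DoubleQuot.quotQuotEquivQuotOfLE hQP), he, hd, ← hh] at hadd
  refine ⟨d, e, h, hd, he, hh.symm, by exact_mod_cast hadd, fun h0 => le_antisymm ?_ hQP⟩
  subst h0
  have h1 := Ideal.height_eq_zero_iff.mp hh.symm
  rw [IsDomain.minimalPrimes_eq_singleton_bot, Set.mem_singleton_iff, Ideal.map_eq_bot_iff_le_ker,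
    Ideal.mk_ker] at h1
  exact h1

/-- Flatness commutes with colons. -/
theorem mem_map_colon {T S : Type u} [CommRing T] [CommRing S] [Algebra T S] [Module.Flat T S]
    {r : ℕ} (c : Fin r → T) (α : T) (x : S) (hx : ∀ i, algebraMap T S α ∣ algebraMap T S (c i) * x) :
    ∃ (k : ℕ) (t : Fin k → T) (y : Fin k → S), x = ∑ j, algebraMap T S (t j) * y j ∧
      ∀ i j, α ∣ c i * t j := by
  choose w hw using hx
  let X : (T × (Fin r → T)) →ₗ[T] S := (LinearMap.toSpanSingleton T S x).coprod (Fintype.linearCombination T w)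
  let f : (Fin r → T) →ₗ[T] (T × (Fin r → T)) :=
    (Fintype.linearCombination T c).prod (-(α • LinearMap.id))
  have h : X ∘ₗ f = 0 := by
    refine LinearMap.ext fun v => ?_
    show (∑ i, v i • c i) • x + Fintype.linearCombination T w (-(α • v)) = 0
    rw [map_neg, map_smul, ← sub_eq_add_neg, sub_eq_zero, Fintype.linearCombination_apply, Finset.smul_sum,
      Finset.sum_smul]
    refine Finset.sum_congr rfl fun i _ => ?_
    rw [smul_eq_mul, Algebra.smul_def, Algebra.smul_def, Algebra.smul_def, map_mul, mul_assoc, hw i]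
    ring
  obtain ⟨k, a, y, hya, haf⟩ := Module.Flat.exists_factorization_of_comp_eq_zero_of_free h
  refine ⟨k, fun j => a (1, 0) j, fun j => y (Finsupp.single j 1), ?_, fun i j => ?_⟩
  · have h1 : X (1, 0) = x := by simp [X]
    rw [← h1, hya, LinearMap.comp_apply]
    conv_lhs => rw [← Finsupp.univ_sum_single (a (1, 0))]
    rw [map_sum]
    refine Finset.sum_congr rfl fun j _ => ?_
    rw [← Algebra.smul_def, ← map_smul, Finsupp.smul_single, smul_eq_mul, mul_one]
  · have h2 : a (f (Pi.single i 1)) j = 0 := by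
      rw [← LinearMap.comp_apply, haf]
      rfl
    have h3 : f (Pi.single i 1) = c i • ((1 : T), (0 : Fin r → T)) + α • ((0 : T), -(Pi.single i 1 : Fin r → T)) := by
      refine Prod.ext ?_ ?_ <;> simp [f]
    rw [h3, map_add, map_smul, map_smul, Finsupp.add_apply, Finsupp.smul_apply, Finsupp.smul_apply,
      smul_eq_mul, smul_eq_mul] at h2
    exact ⟨-(a (0, -Pi.single i 1) j), by linear_combination h2⟩

section

variable {T : Type u} [CommRing T] [IsLocalRing T] [IsNoetherianRing T]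

theorem isCatenary_completion : CAlg.IsCatenary (Ĉ T) :=
  Catenary.isCatenary_of_isUniversallyCatenary (isUniversallyCatenary_of_complete _)

theorem comap_minimalPrimes_completion {Q : Ideal (Ĉ T)} (hQ : Q ∈ minimalPrimes (Ĉ T)) :
    Q.comap (algebraMap T (Ĉ T)) ∈ minimalPrimes T := by
  haveI := hQ.1.1
  refine ⟨⟨Ideal.IsPrime.comap _, bot_le⟩, fun p hp hle => ?_⟩
  haveI := hp.1
  haveI : Q.LiesOver (Q.comap (algebraMap T (Ĉ T))) := ⟨rfl⟩
  obtain ⟨P', hle', hP', hlies⟩ := Ideal.exists_ideal_le_liesOver_of_le (S := Ĉ T) Q hle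
  have : P' = Q := le_antisymm hle' (hQ.2 ⟨hP', bot_le⟩ hle')
  subst this
  exact hlies.over.ge

theorem comap_minimalPrimes_eq_bot [IsDomain T] {Q : Ideal (Ĉ T)} (hQ : Q ∈ minimalPrimes (Ĉ T)) :
    Q.comap (algebraMap T (Ĉ T)) = ⊥ := by
  have := comap_minimalPrimes_completion hQ
  rwa [IsDomain.minimalPrimes_eq_singleton_bot, Set.mem_singleton_iff] at this

/-- A completion with a one-dimensional component comes from a domain of dimension at most one. -/
theorem dim_le_one_of_component [IsDomain T] (hT : CAlg.IsUniversallyCatenary T)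
    {Q : Ideal (Ĉ T)} (hQ : Q ∈ minimalPrimes (Ĉ T))
    (hd : ringKrullDim ((Ĉ T) ⧸ Q) = 1) : ringKrullDim T ≤ 1 := by
  let S := Ĉ T
  let φ := algebraMap T S
  haveI := hQ.1.1
  obtain ⟨n, hn⟩ := SerreReg.exists_dim_nat T
  by_contra hlt
  rw [not_le, hn] at hlt
  have hn2 : 2 ≤ n := by exact_mod_cast hlt
  haveI : Module.FaithfullyFlat T S := Module.FaithfullyFlat.of_flat_of_isLocalHom
  have hQT := comap_minimalPrimes_eq_bot hQ
  have hmax : ∀ P : Ideal S, P.IsPrime → Q ≤ P → P ≠ Q → P = maximalIdeal S := fun P hP hQP hne => by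
    haveI := hP
    obtain ⟨d, e, h, hd', he, -, hsum, hz⟩ := exists_height_add isCatenary_completion hQP
    obtain ⟨d', e', h', hd'', -, -, hsum', hz'⟩ :=
      exists_height_add isCatenary_completion (le_maximalIdeal hP.ne_top)
    have hd1 : d = 1 := by exact_mod_cast hd'.symm.trans hd
    have h0 : h ≠ 0 := fun h0 => hne (hz h0)
    have he0 : d' = e := by exact_mod_cast hd''.symm.trans he
    exact (hz' (by omega)).symm
  -- a nilpotent product separating `Q`
  classical
  let s : Finset (Ideal S) := (minimalPrimes.finite_of_isNoetherianRing S).toFinset.erase Q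
  let J : Ideal S := s.inf id
  have hnil : Q ⊓ J ≤ nilradical S := fun x hx => by
    rw [nilradical_eq_sInf, Submodule.mem_sInf]
    intro (P : Ideal S) hP
    haveI : P.IsPrime := hP
    obtain ⟨P', hP', hle⟩ := Ideal.exists_minimalPrimes_le (I := (⊥ : Ideal S)) (J := P) bot_le
    by_cases hPQ : P' = Q
    · exact hle (hPQ ▸ hx.1)
    · exact hle (Finset.inf_le (f := id) (Finset.mem_erase.mpr ⟨hPQ, (Set.Finite.mem_toFinset _).mpr hP'⟩) hx.2)
  obtain ⟨k, hk⟩ := IsNoetherianRing.isNilpotent_nilradical S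
  let Q0 := Q ^ (k + 1)
  let J0 := J ^ (k + 1)
  have hQJ : ∀ q ∈ Q0, ∀ f ∈ J0, q * f = 0 := fun q hq f hf => by
    have h1 : q * f ∈ Q0 * J0 := Ideal.mul_mem_mul hq hf
    have h2 : Q0 * J0 ≤ nilradical S ^ (k + 1) := by
      rw [show Q0 * J0 = (Q * J) ^ (k + 1) from (mul_pow _ _ _).symm]
      exact Ideal.pow_right_mono (Ideal.mul_le_inf.trans hnil) _
    have h3 := h2 h1
    rw [pow_succ, hk, zero_mul] at h3
    exact h3
  have hQ0 : Q0 ≤ Q := Ideal.pow_le_self (Nat.succ_ne_zero k)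
  have hpow : ∀ I : Ideal S, (∀ P : Ideal S, P.IsPrime → Q0 ⊔ I ≤ P → P = maximalIdeal S) →
      ∃ N, maximalIdeal S ^ N ≤ Q0 ⊔ I := fun I hI => by
    refine Ideal.exists_pow_le_of_le_radical_of_fg ?_ (IsNoetherian.noetherian _)
    rw [Ideal.radical_eq_sInf]
    exact le_sInf fun P hP => (hI P hP.2 hP.1).ge
  have hle_of : ∀ P : Ideal S, P.IsPrime → Q0 ≤ P → Q ≤ P := fun P hP h => hP.le_of_pow_le h
  obtain ⟨N₁, hN₁⟩ := hpow J0 fun P hP hle => hmax P hP (hle_of P hP (le_sup_left.trans hle)) fun hPQ => by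
    obtain ⟨P', hP', hle'⟩ := (Ideal.IsPrime.inf_le' hP).mp (hP.le_of_pow_le (le_sup_right.trans hle) : J ≤ P)
    obtain ⟨hne, hP''⟩ := Finset.mem_erase.mp hP'
    rw [Set.Finite.mem_toFinset] at hP''
    exact hne (le_antisymm (hle'.trans hPQ.le) (hQ.2 hP''.1 (hle'.trans hPQ.le)))
  obtain ⟨c₀, hc₀, hc₀0⟩ : ∃ c ∈ maximalIdeal T, c ≠ 0 := Submodule.exists_mem_ne_zero_of_ne_bot fun h => by
    have h1 := IsLocalRing.maximalIdeal_height_eq_ringKrullDim (R := T)
    rw [h, Ideal.height_bot, hn] at h1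
    have : (0 : ℕ) = n := by exact_mod_cast h1
    omega
  obtain ⟨a, ha⟩ : ∃ a, a = c₀ ^ (N₁ + 1) := ⟨_, rfl⟩
  have ha0 : a ≠ 0 := ha ▸ pow_ne_zero _ hc₀0
  have hloc : ∀ t ∈ maximalIdeal T, φ t ∈ maximalIdeal S := fun t ht hu => ht (isUnit_of_map_unit φ t hu)
  have haQ : φ a ∉ Q := fun h => ha0 (Ideal.mem_bot.mp (hQT.le h))
  obtain ⟨q, hq, f, hf, hqf⟩ := Submodule.mem_sup.mp (hN₁ (by
    show φ a ∈ maximalIdeal S ^ N₁
    rw [ha, map_pow, pow_succ]
    exact Ideal.mul_mem_right _ _ (Ideal.pow_mem_pow (hloc _ hc₀) _)))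
  have hqf0 : q * f = 0 := hQJ q hq f hf
  obtain ⟨N, hN⟩ := hpow (Ideal.span {φ a}) fun P hP hle => hmax P hP (hle_of P hP (le_sup_left.trans hle))
    fun hPQ => haQ (hPQ ▸ hle (Ideal.mem_sup_right (Ideal.mem_span_singleton_self _)))
  have hdecomp : ∀ x ∈ maximalIdeal S ^ N, ∃ q' ∈ Q0, ∃ y, x = q' + φ a * y ∧ q' * f = 0 := fun x hx => by
    obtain ⟨q', hq', z, hz, hqz⟩ := Submodule.mem_sup.mp (hN hx)
    obtain ⟨y, rfl⟩ := Ideal.mem_span_singleton'.mp hz
    exact ⟨q', hq', y, by linear_combination -hqz, hQJ q' hq' f hf⟩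
  have hmapN : (maximalIdeal T ^ N).map φ = maximalIdeal S ^ N := by
    rw [Ideal.map_pow, AdicCompletion.maximalIdeal_eq_map]
  -- `a f` lies in `T + a² S`
  obtain ⟨r, c, hc⟩ := Submodule.fg_iff_exists_fin_generating_family.mp
    (IsNoetherian.noetherian (maximalIdeal T ^ N) : (maximalIdeal T ^ N).FG)
  have hcN : ∀ i, φ (c i) ∈ maximalIdeal S ^ N := fun i => hmapN ▸
    Ideal.mem_map_of_mem φ (hc ▸ Submodule.subset_span (Set.mem_range_self i))
  obtain ⟨k', t', y', hsum, hdvd⟩ := mem_map_colon (S := S) c (a ^ 2) (φ a * f) fun i => by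
    obtain ⟨q', -, y, hy, hq'f⟩ := hdecomp _ (hcN i)
    refine ⟨y * f, ?_⟩
    show φ (c i) * (φ a * f) = φ (a ^ 2) * (y * f)
    rw [map_pow]
    linear_combination (φ a * f) * hy + φ a * hq'f
  choose s' hs' using fun j => exists_sub_mem_pow (y' j) N
  have hkill : ∀ j, φ (t' j) * (y' j - φ (s' j)) ∈ Ideal.span {φ a ^ 2} := fun j => by
    have h1 : Ideal.span {t' j} * maximalIdeal T ^ N ≤ Ideal.span {a ^ 2} := by
      rw [← hc, Ideal.span_singleton_mul_le_iff]
      intro z hz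
      induction hz using Submodule.span_induction with
      | mem z hz =>
        obtain ⟨i, rfl⟩ := hz
        exact Ideal.mem_span_singleton.mpr (mul_comm (t' j) (c i) ▸ hdvd i j)
      | zero => simp
      | add x y _ _ hx hy => rw [mul_add]; exact add_mem hx hy
      | smul r x _ hx => rw [smul_eq_mul, mul_left_comm]; exact Ideal.mul_mem_left _ _ hx
    have h2 := Ideal.map_mono (f := φ) h1
    rw [Ideal.map_mul, hmapN, Ideal.map_span, Ideal.map_span, Set.image_singleton, Set.image_singleton,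
      map_pow] at h2
    exact h2 (Ideal.mul_mem_mul (Ideal.mem_span_singleton_self _) (hs' j))
  let b := ∑ j, t' j * s' j
  obtain ⟨g, hg⟩ := Ideal.mem_span_singleton'.mp
    (show φ b - φ a * f ∈ Ideal.span {φ a ^ 2} by
      rw [show φ b - φ a * f = -∑ j, φ (t' j) * (y' j - φ (s' j)) from by
        simp only [b, map_sum, map_mul, hsum, mul_sub, Finset.sum_sub_distrib]
        exact (neg_sub _ _).symm]
      exact neg_mem (sum_mem fun j _ => hkill j))
  have hb : φ b = φ a * f + φ a ^ 2 * g := by linear_combination -hg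
  -- the quadratic equation
  have hb2 : b ^ 2 ∈ Ideal.span {a ^ 2 * b, a ^ 4} := by
    rw [← Ideal.comap_map_eq_self_of_faithfullyFlat (B := S) (Ideal.span {a ^ 2 * b, a ^ 4}), Ideal.mem_comap,
      Ideal.map_span, Set.image_pair, Ideal.mem_span_pair]
    refine ⟨2 * g + 1, -(g ^ 2 + g), ?_⟩
    show (2 * g + 1) * φ (a ^ 2 * b) + -(g ^ 2 + g) * φ (a ^ 4) = φ (b ^ 2)
    simp only [map_pow, map_mul, hb]
    linear_combination φ a ^ 2 * hqf0 - φ a ^ 2 * f * hqf
  obtain ⟨u, v, huv⟩ := Ideal.mem_span_pair.mp hb2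
  let D := S ⧸ Q
  haveI : Nontrivial D := Ideal.Quotient.nontrivial_iff.mpr (Ideal.IsPrime.ne_top inferInstance)
  let π : S →+* D := Ideal.Quotient.mk Q
  haveI : IsLocalHom π := IsLocalHom.of_surjective π Ideal.Quotient.mk_surjective
  have hψ : ∀ t, algebraMap T D t = π (φ t) := fun _ => rfl
  have haD : π (φ a) ≠ 0 := fun h => haQ (Ideal.Quotient.eq_zero_iff_mem.mp h)
  have hπf : π f = π (φ a) := by
    rw [← hqf, map_add, Ideal.Quotient.eq_zero_iff_mem.mpr (hQ0 hq), zero_add]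
  let z : D := π (1 + g)
  have hz : π (φ b) = π (φ a) ^ 2 * z := by
    simp only [z, hb, map_add, map_mul, map_pow, map_one, hπf]
    ring
  have hz2 : z ^ 2 - algebraMap T D u * z - algebraMap T D v = 0 := by
    refine (mul_eq_zero.mp ?_).resolve_left (pow_ne_zero 4 haD)
    have h1 := congrArg (fun t => π (φ t)) huv
    simp only [map_add, map_mul, map_pow] at h1
    rw [hψ, hψ]
    linear_combination (π (φ u) * π (φ a) ^ 2 - π (φ b) - π (φ a) ^ 2 * z) * hz - h1
  have hzint : IsIntegral T z := ⟨Polynomial.X ^ 2 - (Polynomial.C u * Polynomial.X + Polynomial.C v),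
    Polynomial.monic_X_pow_sub (Polynomial.degree_linear_le.trans_lt (by decide)), by
      simp only [Polynomial.eval₂_sub, Polynomial.eval₂_X_pow, Polynomial.eval₂_add, Polynomial.eval₂_mul,
        Polynomial.eval₂_C, Polynomial.eval₂_X]
      linear_combination hz2⟩
  let T' := Algebra.adjoin T {z}
  haveI : Module.Finite T T' := Module.Finite.of_fg (hzint.fg_adjoin_singleton)
  haveI : Algebra.IsIntegral T T' := Algebra.IsIntegral.of_finite T T'
  haveI : FaithfulSMul T T' := (faithfulSMul_iff_algebraMap_injective _ _).mpr fun x y hxy => by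
    have h1 : π (φ x) = π (φ y) := congrArg Subtype.val hxy
    rw [Ideal.Quotient.eq, ← map_sub] at h1
    exact sub_eq_zero.mp (Ideal.mem_bot.mp (hQT.le h1))
  let m' : Ideal T' := (maximalIdeal D).comap T'.val.toRingHom
  haveI : m'.IsPrime := Ideal.IsPrime.comap _
  have hunder : ∀ t, algebraMap T T' t ∈ m' ↔ t ∈ maximalIdeal T := fun t => by
    show π (φ t) ∈ maximalIdeal D ↔ _
    rw [mem_maximalIdeal, mem_maximalIdeal, mem_nonunits_iff, mem_nonunits_iff, isUnit_map_iff π, isUnit_map_iff φ]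
  haveI : m'.LiesOver (maximalIdeal T) := ⟨Ideal.ext fun t => (hunder t).symm⟩
  -- the identity in `T'`
  obtain ⟨t, ht⟩ := exists_sub_mem_pow g 1
  rw [pow_one] at ht
  have hkey : ∀ cc ∈ maximalIdeal T ^ N, ∃ w : T', w ∉ m' ∧
      algebraMap T T' cc * w ∈ Ideal.span {algebraMap T T' a} := fun cc hcc => by
    have hccS : φ cc ∈ maximalIdeal S ^ N := hmapN ▸ Ideal.mem_map_of_mem φ hcc
    obtain ⟨q', -, y, hy, hq'f⟩ := hdecomp _ hccS
    obtain ⟨s, hs⟩ := exists_sub_mem_pow y N
    obtain ⟨q'', -, σ, hσ, hq''f⟩ := hdecomp _ hs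
    have hmem : b * cc - a * s * b - cc * t * a ^ 2 ∈
        Ideal.span {a ^ 3} ⊔ Ideal.span {a ^ 2 * cc} * maximalIdeal T := by
      rw [← Ideal.comap_map_eq_self_of_faithfullyFlat (B := S)
          (Ideal.span {a ^ 3} ⊔ Ideal.span {a ^ 2 * cc} * maximalIdeal T), Ideal.mem_comap, Ideal.map_sup,
        Ideal.map_mul, Ideal.map_span, Ideal.map_span, Set.image_singleton, Set.image_singleton,
        ← AdicCompletion.maximalIdeal_eq_map]
      have h1 : φ (b * cc - a * s * b - cc * t * a ^ 2) =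
          φ (a ^ 3) * (f * σ - φ s * g) + φ (a ^ 2 * cc) * (g - φ t) := by
        simp only [map_sub, map_mul, map_pow, hb]
        linear_combination (φ a * f) * hy + φ a * hq'f + φ a ^ 2 * f * hσ + φ a ^ 2 * hq''f
      rw [h1]
      exact add_mem (Ideal.mem_sup_left (Ideal.mul_mem_right _ _ (Ideal.mem_span_singleton_self _)))
        (Ideal.mem_sup_right (Ideal.mul_mem_mul (Ideal.mem_span_singleton_self _) ht))
    obtain ⟨x₁, hx₁, x₂, hx₂, hx⟩ := Submodule.mem_sup.mp hmem
    obtain ⟨u', rfl⟩ := Ideal.mem_span_singleton'.mp hx₁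
    obtain ⟨μ, hμ, rfl⟩ := Ideal.mem_span_singleton_mul.mp hx₂
    refine ⟨⟨z, Algebra.self_mem_adjoin_singleton T z⟩ - algebraMap T T' t - algebraMap T T' μ, fun hm => ?_,
      Ideal.mem_span_singleton'.mpr ⟨algebraMap T T' u' + algebraMap T T' s * ⟨z, Algebra.self_mem_adjoin_singleton T z⟩,
        Subtype.ext ?_⟩⟩
    · have h1 : π (1 + ((g - φ t) - φ μ)) ∈ maximalIdeal D := by
        have h2 : π (1 + ((g - φ t) - φ μ)) = z - π (φ t) - π (φ μ) := by
          simp only [z, map_add, map_sub, map_one]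
          ring
        rw [h2]
        exact hm
      rw [mem_maximalIdeal, mem_nonunits_iff, isUnit_map_iff π] at h1
      exact h1 ((IsLocalRing.isUnit_or_isUnit_one_sub_self (-((g - φ t) - φ μ))).resolve_left
        (fun hu => (sub_mem ht (hloc _ hμ) : (g - φ t) - φ μ ∈ maximalIdeal S) (IsUnit.neg_iff _ |>.mp hu)) |> fun h => by
          rwa [sub_neg_eq_add] at h)
    · show (π (φ u') + π (φ s) * z) * π (φ a) = π (φ cc) * (z - π (φ t) - π (φ μ))
      have h1 := congrArg (fun x => π (φ x)) hx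
      simp only [map_add, map_sub, map_mul, map_pow] at h1
      refine mul_left_cancel₀ (pow_ne_zero 2 haD) ?_
      linear_combination h1 + (π (φ cc) - π (φ a) * π (φ s)) * hz
  have hmin : m' ∈ (Ideal.span {algebraMap T T' a}).minimalPrimes := by
    refine ⟨⟨inferInstance, (Ideal.span_singleton_le_iff_mem _).mpr ((hunder a).mpr
      (ha ▸ Ideal.pow_mem_of_mem _ hc₀ _ (Nat.succ_pos _)))⟩, fun P hP hle => ?_⟩
    haveI := hP.1
    have h1 : maximalIdeal T ^ N ≤ P.comap (algebraMap T T') := fun cc hcc => by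
      obtain ⟨w, hw, hmem⟩ := hkey cc hcc
      exact (hP.1.mem_or_mem (hP.2 hmem)).resolve_right fun h => hw (hle h)
    have h2 : P.comap (algebraMap T T') = maximalIdeal T :=
      le_antisymm (le_maximalIdeal (Ideal.IsPrime.ne_top inferInstance))
        ((Ideal.IsPrime.comap (algebraMap T T') : (P.comap (algebraMap T T')).IsPrime).le_of_pow_le h1)
    haveI : P.IsMaximal := Ideal.isMaximal_of_isIntegral_of_isMaximal_comap (R := T) P
      (by rw [h2]; exact maximalIdeal.isMaximal T)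
    exact (Ideal.IsMaximal.eq_of_le inferInstance (Ideal.IsPrime.ne_top inferInstance) hle).ge
  haveI : IsNoetherianRing T' := Algebra.FiniteType.isNoetherianRing T T'
  have h1 : m'.height ≤ 1 := Ideal.height_le_one_of_isPrincipal_of_mem_minimalPrimes _ m' hmin
  obtain ⟨a', b', c', d', ha', hb', hc', hd', hsum'⟩ :=
    Catenary.exists_dimension_formula T hT T' (maximalIdeal T) m'
  haveI : Algebra.IsIntegral (T ⧸ maximalIdeal T) (T' ⧸ m') := Ideal.Quotient.algebra_isIntegral_of_liesOver _ _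
  haveI : Nontrivial (T' ⧸ m') := Ideal.Quotient.nontrivial_iff.mpr (Ideal.IsPrime.ne_top inferInstance)
  haveI : Nontrivial (T ⧸ maximalIdeal T) := Ideal.Quotient.nontrivial_iff.mpr (Ideal.IsPrime.ne_top inferInstance)
  have hb0 : b' = 0 := by exact_mod_cast hb'.symm.trans trdeg_eq_zero
  have hd0 : d' = 0 := by exact_mod_cast hd'.symm.trans trdeg_eq_zero
  have hcn : c' = n := by
    have h := IsLocalRing.maximalIdeal_height_eq_ringKrullDim (R := T)
    rw [hc', hn] at h
    exact_mod_cast h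
  rw [ha'] at h1
  have : a' ≤ 1 := by exact_mod_cast h1
  omega

end

/-- **Ratliff's theorem**: the completion of a universally catenary Noetherian local domain is equidimensional. -/
theorem isEquidim_completion : ∀ (n : ℕ) (T : Type u) [CommRing T] [IsDomain T] [IsLocalRing T] [IsNoetherianRing T],
    CAlg.IsUniversallyCatenary T → ringKrullDim T = n → EGA4.IsEquidim (Ĉ T) := by
  intro n
  induction n using Nat.strong_induction_on with
  | _ n IH =>
  intro T _ _ _ _ hT hn Q hQ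
  classical
  let S := Ĉ T
  let φ := algebraMap T S
  haveI := hQ.1.1
  have hS : CAlg.IsCatenary S := isCatenary_completion
  have hSn : ringKrullDim S = n := (AdicBasics.ringKrullDim_completion T).trans hn
  haveI : Nontrivial (S ⧸ Q) := Ideal.Quotient.nontrivial_iff.mpr (Ideal.IsPrime.ne_top inferInstance)
  obtain ⟨d, hd⟩ := SerreReg.exists_dim_nat (S ⧸ Q)
  rw [hd, hSn]
  congr 2
  show d = n
  have hdn : d ≤ n := by
    have h : ringKrullDim (S ⧸ Q) ≤ ringKrullDim S := ringKrullDim_quotient_le Q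
    rw [hd, hSn] at h
    exact_mod_cast h
  obtain h0 | h1 | h2 : d = 0 ∨ d = 1 ∨ 2 ≤ d := by omega
  · obtain ⟨d', e, h, hd', -, -, hsum, hz⟩ := exists_height_add hS (le_maximalIdeal (Ideal.IsPrime.ne_top (I := Q) inferInstance))
    rw [h0] at hd
    have : d' = 0 := by exact_mod_cast hd'.symm.trans hd
    have hmQ : maximalIdeal S = Q := hz (by omega)
    have h0' := IsLocalRing.maximalIdeal_height_eq_ringKrullDim (R := S)
    rw [hSn, hmQ, Ideal.height_eq_zero_iff.mpr hQ] at h0'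
    have : (0 : ℕ) = n := by exact_mod_cast h0'
    omega
  · have h := dim_le_one_of_component hT hQ (by rw [hd, h1]; rfl)
    rw [hn] at h
    have : n ≤ 1 := by exact_mod_cast h
    omega
  -- `d ≥ 2`
  let F := (minimalPrimes.finite_of_isNoetherianRing S).toFinset
  let Bad : Finset (Ideal S) := (F.filter fun Q' => ringKrullDim (S ⧸ Q') ≠ d).biUnion fun Q' =>
    ((Q ⊔ Q').finite_minimalPrimes_of_isNoetherianRing S).toFinset.filter fun P =>
      ringKrullDim (S ⧸ P) = ((d - 1 : ℕ) : WithBot ℕ∞)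
  have hm0 : maximalIdeal T ≠ ⊥ := fun h => by
    have h1 := IsLocalRing.maximalIdeal_height_eq_ringKrullDim (R := T)
    rw [h, Ideal.height_bot, hn] at h1
    have : (0 : ℕ) = n := by exact_mod_cast h1
    omega
  have hBad : ∀ P ∈ Bad, P.IsPrime ∧ ¬ maximalIdeal T ≤ P.comap φ := by
    intro P hP
    obtain ⟨Q', -, hP⟩ := Finset.mem_biUnion.mp hP
    obtain ⟨hP, hPd⟩ := Finset.mem_filter.mp hP
    rw [Set.Finite.mem_toFinset] at hP
    haveI := hP.1.1
    refine ⟨hP.1.1, fun hle => ?_⟩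
    have hPm : P = maximalIdeal S := le_antisymm (le_maximalIdeal hP.1.1.ne_top) (by
      rw [AdicCompletion.maximalIdeal_eq_map]
      exact Ideal.map_le_iff_le_comap.mpr hle)
    subst hPm
    letI := Ideal.Quotient.field (maximalIdeal S)
    rw [ringKrullDim_eq_zero_of_field] at hPd
    have : (0 : ℕ) = d - 1 := by exact_mod_cast hPd
    omega
  obtain ⟨a, ha, ha0, haBad⟩ : ∃ a ∈ maximalIdeal T, a ≠ 0 ∧ ∀ P ∈ Bad, φ a ∉ P := by
    by_contra hcon
    push_neg at hcon
    have hsub : (maximalIdeal T : Set T) ⊆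
        ⋃ i ∈ (↑(insert ⊥ (Bad.image fun P => P.comap φ)) : Set (Ideal T)), ((id i : Ideal T) : Set T) := by
      intro x hx
      simp only [Set.mem_iUnion]
      by_cases hx0 : x = 0
      · exact ⟨⊥, Finset.mem_insert_self _ _, Ideal.mem_bot.mpr hx0⟩
      · obtain ⟨P, hP, hxP⟩ := hcon x hx hx0
        exact ⟨P.comap φ, Finset.mem_insert_of_mem (Finset.mem_image_of_mem _ hP), hxP⟩
    obtain ⟨i, hi, hle⟩ := (Ideal.subset_union_prime (R := T) (f := id) ⊥ ⊥ (fun i hi h _ => by
      obtain ⟨P, hP, rfl⟩ := Finset.mem_image.mp ((Finset.mem_insert.mp hi).resolve_left h)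
      haveI := (hBad P hP).1
      exact Ideal.IsPrime.comap φ)).mp hsub
    rcases Finset.mem_insert.mp hi with rfl | hi
    · exact hm0 (le_bot_iff.mp hle)
    · obtain ⟨P, hP, rfl⟩ := Finset.mem_image.mp hi
      exact (hBad P hP).2 hle
  have hamin : ∀ Q' ∈ minimalPrimes S, φ a ∉ Q' := fun Q' hQ' h =>
    ha0 (Ideal.mem_bot.mp ((comap_minimalPrimes_eq_bot hQ').le h))
  obtain ⟨P, hP, -⟩ := Ideal.exists_minimalPrimes_le (I := Q ⊔ Ideal.span {φ a}) (J := maximalIdeal S)
    (sup_le (le_maximalIdeal (Ideal.IsPrime.ne_top inferInstance)) ((Ideal.span_singleton_le_iff_mem _).mpr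
      fun hu => ha (isUnit_of_map_unit φ a hu)))
  haveI := hP.1.1
  have hQP : Q ≤ P := le_sup_left.trans hP.1.2
  have haP : φ a ∈ P := hP.1.2 (Ideal.mem_sup_right (Ideal.mem_span_singleton_self _))
  have hh1 : (P.map (Ideal.Quotient.mk Q)).height ≤ 1 := by
    haveI : (P.map (Ideal.Quotient.mk Q)).IsPrime :=
      Ideal.map_isPrime_of_surjective Ideal.Quotient.mk_surjective (by rwa [Ideal.mk_ker])
    refine Ideal.height_le_one_of_isPrincipal_of_mem_minimalPrimes (Ideal.span {Ideal.Quotient.mk Q (φ a)}) _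
      ⟨⟨inferInstance, (Ideal.span_singleton_le_iff_mem _).mpr (Ideal.mem_map_of_mem _ haP)⟩, fun P' hP' hle => ?_⟩
    haveI := hP'.1
    rw [Ideal.map_le_iff_le_comap]
    refine hP.2 ⟨Ideal.IsPrime.comap _, sup_le (fun x hx => ?_) ((Ideal.span_singleton_le_iff_mem _).mpr
      (hP'.2 (Ideal.mem_span_singleton_self _)))⟩ ((Ideal.comap_mono hle).trans_eq ?_)
    · rw [Ideal.mem_comap, Ideal.Quotient.eq_zero_iff_mem.mpr hx]
      exact zero_mem _
    · rw [Ideal.comap_map_of_surjective _ Ideal.Quotient.mk_surjective, ← RingHom.ker_eq_comap_bot, Ideal.mk_ker,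
        sup_eq_left.mpr hQP]
  obtain ⟨d₀, e, h, hd₀, he, hh, hsum, hz⟩ := exists_height_add hS hQP
  obtain rfl : d = d₀ := by exact_mod_cast hd.symm.trans hd₀
  rw [hh] at hh1
  have hh1' : h ≤ 1 := by exact_mod_cast hh1
  have hh0 : h ≠ 0 := fun h0 => hamin Q hQ (hz h0 ▸ haP)
  have hgood : ∀ Q' ∈ minimalPrimes S, Q' ≤ P → ringKrullDim (S ⧸ Q') = d := by
    intro Q' hQ' hle
    by_contra hne
    haveI := hQ'.1.1
    obtain ⟨P', hP', hP'le⟩ := Ideal.exists_minimalPrimes_le (sup_le hQP hle)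
    haveI := hP'.1.1
    obtain ⟨d₁, e₁, h₁, hd₁, he₁, -, hsum₁, hz₁⟩ := exists_height_add hS (le_sup_left.trans hP'.1.2 : Q ≤ P')
    obtain ⟨d₂, e₂, h₂, hd₂, he₂, -, hsum₂, hz₂⟩ := exists_height_add hS hP'le
    have h3 : d₁ = d := by exact_mod_cast hd₁.symm.trans hd
    have h4 : d₂ = e₁ := by exact_mod_cast hd₂.symm.trans he₁
    have h5 : e₂ = e := by exact_mod_cast he₂.symm.trans he
    have h6 : h₁ ≠ 0 := fun h0 => by
      have hP'Q := hz₁ h0
      have hle' : Q' ≤ Q := hP'Q ▸ le_sup_right.trans hP'.1.2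
      exact hne (le_antisymm hle' (hQ.2 hQ'.1 hle') ▸ hd)
    obtain rfl : P = P' := hz₂ (by omega)
    refine haBad P (Finset.mem_biUnion.mpr ⟨Q', Finset.mem_filter.mpr ⟨(Set.Finite.mem_toFinset _).mpr hQ', hne⟩,
      Finset.mem_filter.mpr ⟨(Set.Finite.mem_toFinset _).mpr hP', ?_⟩⟩) haP
    rw [he, show e = d - 1 by omega]
  have hbelow : ∀ P' : Ideal S, P'.IsPrime → P' < P → P' ∈ minimalPrimes S := by
    intro P' hP' hlt
    haveI := hP'
    obtain ⟨Q', hQ', hle⟩ := Ideal.exists_minimalPrimes_le (I := (⊥ : Ideal S)) (J := P') bot_le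
    haveI := hQ'.1.1
    obtain ⟨d₁, e₁, h₁, hd₁, he₁, -, hsum₁, hz₁⟩ := exists_height_add hS hle
    obtain ⟨d₂, e₂, h₂, hd₂, he₂, -, hsum₂, hz₂⟩ := exists_height_add hS hlt.le
    have h3 : d₁ = d := by exact_mod_cast hd₁.symm.trans (hgood Q' hQ' (hle.trans hlt.le))
    have h4 : d₂ = e₁ := by exact_mod_cast hd₂.symm.trans he₁
    have h5 : e₂ = e := by exact_mod_cast he₂.symm.trans he
    have h6 : h₂ ≠ 0 := fun h0 => hlt.ne (hz₂ h0).symm
    exact (hz₁ (by omega)) ▸ hQ'
  have hPh : P.height ≤ 1 := by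
    refine Ideal.height_le_iff.mpr fun q hq hlt => ?_
    haveI := hq
    rw [Ideal.height_eq_zero_iff.mpr (hbelow q hq hlt)]
    exact zero_lt_one
  let p := P.comap φ
  haveI : p.IsPrime := Ideal.IsPrime.comap _
  obtain ⟨P', hP', hP'le⟩ := Ideal.exists_minimalPrimes_le (Ideal.map_comap_le : p.map φ ≤ P)
  haveI := hP'.1.1
  obtain ⟨hcomap, hht⟩ := Catenary.minimalPrimes_map_facts p P' hP'
  obtain rfl : P' = P := by
    by_contra hne
    exact hamin P' (hbelow P' inferInstance (lt_of_le_of_ne hP'le hne)) (hcomap.ge haP : a ∈ P'.comap φ)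
  have hp1 : p.height = 1 := by
    refine le_antisymm (hht ▸ hPh) (ENat.one_le_iff_ne_zero.mpr fun h0 => ?_)
    rw [Ideal.height_eq_zero_iff, IsDomain.minimalPrimes_eq_singleton_bot, Set.mem_singleton_iff] at h0
    exact ha0 (Ideal.mem_bot.mp (h0.le haP))
  haveI : Nontrivial (T ⧸ p) := Ideal.Quotient.nontrivial_iff.mpr (Ideal.IsPrime.ne_top inferInstance)
  obtain ⟨n', hn'⟩ := SerreReg.exists_dim_nat (T ⧸ p)
  have hadd := Catenary.dim_domain_add (Catenary.isCatenary_of_isUniversallyCatenary hT) p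
  rw [hp1, hn', hn] at hadd
  have hn'' : n' + 1 = n := by exact_mod_cast hadd
  have heq := IH n' (by omega) (T ⧸ p) (Catenary.isUniversallyCatenary_of_finiteType hT) hn'
  obtain ⟨E⟩ := exists_quotient_equiv (Ideal.Quotient.mk p) Ideal.Quotient.mk_surjective
  have hker : (RingHom.ker (Ideal.Quotient.mk p)).map φ = p.map φ := by rw [Ideal.mk_ker]
  let E' := (Ideal.quotEquivOfEq hker.symm).trans E
  have h1 : ringKrullDim (S ⧸ P') = ringKrullDim (S ⧸ p.map φ) :=
    (Catenary.isEquidim_quotient_iff _).mp (isEquidim_of_ringEquiv E'.symm heq) P' hP'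
  rw [ringKrullDim_eq_of_ringEquiv E', AdicBasics.ringKrullDim_completion, hn', he] at h1
  have : e = n' := by exact_mod_cast h1
  omega

theorem isFormallyEquidim_of_domain {T : Type u} [CommRing T] [IsDomain T] [IsLocalRing T] [IsNoetherianRing T]
    (hT : CAlg.IsUniversallyCatenary T) : EGA4.IsFormallyEquidim T := by
  obtain ⟨n, hn⟩ := SerreReg.exists_dim_nat T
  exact isEquidim_completion n T hT hn

theorem isFormallyCatenary_of_universallyCatenary {A : Type u} [CommRing A] [IsLocalRing A] [IsNoetherianRing A]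
    (hA : CAlg.IsUniversallyCatenary A) : EGA4.IsFormallyCatenary A := fun p _ => by
  haveI : Nontrivial (A ⧸ p) := Ideal.Quotient.nontrivial_iff.mpr (Ideal.IsPrime.ne_top inferInstance)
  exact isFormallyEquidim_of_domain (Catenary.isUniversallyCatenary_of_finiteType hA)

end Groth.Agent.Cohen
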