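import Groth.Agent.Cohen.FormallyCatenary
import Groth.Agent.Catenary.Flat
import Groth.Agent.DimFormula.Rel
import Mathlib.RingTheory.TensorProduct.MvPolynomial
import Mathlib.RingTheory.Flat.FaithfullyFlat.Algebra
import Mathlib.RingTheory.Flat.Localization

/-!
# Formally catenary local rings are universally catenary
-/

set_option autoImplicit false
set_option linter.style.haveILetI false
universe u

open IsLocalRing

namespace Groth.Agent.Cohen

/-- An equidimensional formally catenary local ring is formally equidimensional. -/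
theorem isFormallyEquidim_of_isEquidim {B : Type u} [CommRing B] [IsLocalRing B] [IsNoetherianRing B]
    (hc : EGA4.IsFormallyCatenary B) (heq : EGA4.IsEquidim B) : EGA4.IsFormallyEquidim B := by
  intro P hP
  haveI := hP.1.1
  let S := AdicCompletion (maximalIdeal B) B
  let φ := algebraMap B S
  let p := P.comap φ
  have hp : p ∈ minimalPrimes B := comap_minimalPrimes_completion hP
  haveI := hp.1.1
  haveI : Nontrivial (B ⧸ p) := Ideal.Quotient.nontrivial_iff.mpr (Ideal.IsPrime.ne_top inferInstance)
  have hmin : P ∈ (p.map φ).minimalPrimes :=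
    ⟨⟨hP.1.1, Ideal.map_comap_le⟩, fun R hR hRP => hP.2 ⟨hR.1, bot_le⟩ hRP⟩
  obtain ⟨E⟩ := exists_quotient_equiv (Ideal.Quotient.mk p) Ideal.Quotient.mk_surjective
  have hker : (RingHom.ker (Ideal.Quotient.mk p)).map φ = p.map φ := by rw [Ideal.mk_ker]
  let E' := (Ideal.quotEquivOfEq hker.symm).trans E
  rw [(Catenary.isEquidim_quotient_iff _).mp (isEquidim_of_ringEquiv E'.symm (hc p)) P hmin,
    ringKrullDim_eq_of_ringEquiv E', AdicBasics.ringKrullDim_completion, AdicBasics.ringKrullDim_completion, heq p hp]

theorem height_map_of_ker {W X : Type u} [CommRing W] [CommRing X] (f : W →+* X) (hf : Function.Surjective f)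
    (N : Ideal W) : (N.map f).height = (N.map (Ideal.Quotient.mk (RingHom.ker f))).height := by
  let e := RingHom.quotientKerEquivOfSurjective hf
  rw [← e.height_map, ← Ideal.map_coe e, Ideal.map_map]
  congr 1

theorem height_map_map {W X : Type u} [CommRing W] [CommRing X] (π : W →+* X) (hπ : Function.Surjective π)
    (I : Ideal W) (hI : RingHom.ker π ≤ I) (N : Ideal W) :
    ((N.map π).map (Ideal.Quotient.mk (I.map π))).height = (N.map (Ideal.Quotient.mk I)).height := by
  have hs : Function.Surjective ((Ideal.Quotient.mk (I.map π)).comp π) := Ideal.Quotient.mk_surjective.comp hπ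
  rw [Ideal.map_map, height_map_of_ker _ hs]
  have hk : RingHom.ker ((Ideal.Quotient.mk (I.map π)).comp π) = I := by
    rw [← RingHom.comap_ker, Ideal.mk_ker, Ideal.comap_map_of_surjective _ hπ, ← RingHom.ker_eq_comap_bot,
      sup_eq_left.mpr hI]
  rw [hk]

/-- Chains between two primes are seen in the localization. -/
theorem ringKrullDim_localization_quotient {W : Type u} [CommRing W] [IsNoetherianRing W] (N P : Ideal W)
    [N.IsPrime] [P.IsPrime] (hPN : P ≤ N) :
    ringKrullDim (Localization.AtPrime N ⧸ P.map (algebraMap W (Localization.AtPrime N))) =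
      ((N.map (Ideal.Quotient.mk P)).height : WithBot ℕ∞) := by
  let B := Localization.AtPrime N
  let α := algebraMap W B
  haveI hN' : (N.map (Ideal.Quotient.mk P)).IsPrime :=
    Ideal.map_isPrime_of_surjective Ideal.Quotient.mk_surjective (by rwa [Ideal.mk_ker])
  have hmono : StrictMono (PrimeSpectrum.comap α) :=
    (Catenary.localizationEmbedding N.primeCompl B).strictMono
  rw [ringKrullDim_quotient]
  refine le_antisymm (iSup_le fun l => ?_) ?_
  · let l' : LTSeries (PrimeSpectrum W) := l.map (fun x => PrimeSpectrum.comap α x.1) fun a b h => hmono h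
    have hhead : (⟨P, ‹_›⟩ : PrimeSpectrum W) ≤ l'.head := by
      intro x hx
      exact l.head.2 (Ideal.mem_map_of_mem α hx)
    have hlast : l'.last ≤ ⟨N, ‹_›⟩ := by
      intro x hx
      by_contra hxN
      exact (PrimeSpectrum.isPrime l.last.1).ne_top (Ideal.eq_top_of_isUnit_mem _ hx
        (IsLocalization.map_units B (⟨x, hxN⟩ : N.primeCompl)))
    exact_mod_cast DimFormula.natCast_le_height_quotient (⟨P, ‹_›⟩ : PrimeSpectrum W) ⟨N, ‹_›⟩ l' hhead hlast
  · obtain ⟨l, hlast, hlen⟩ := (N.map (Ideal.Quotient.mk P)).exists_ltSeries_length_eq_height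
    have hsub : ∀ i, P ≤ (l i).asIdeal.comap (Ideal.Quotient.mk P) ∧ (l i).asIdeal.comap (Ideal.Quotient.mk P) ≤ N :=
      fun i => ⟨fun x hx => by rw [Ideal.mem_comap, Ideal.Quotient.eq_zero_iff_mem.mpr hx]; exact zero_mem _,
        (Ideal.comap_mono ((l.monotone (Fin.le_last i)).trans hlast.le : l i ≤ ⟨_, hN'⟩)).trans_eq (by
          show (N.map (Ideal.Quotient.mk P)).comap _ = N
          rw [Ideal.comap_map_of_surjective _ Ideal.Quotient.mk_surjective, ← RingHom.ker_eq_comap_bot, Ideal.mk_ker,
            sup_eq_left.mpr hPN])⟩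
    have hdisj : ∀ i, Disjoint (N.primeCompl : Set W) ((l i).asIdeal.comap (Ideal.Quotient.mk P) : Set W) :=
      fun i => Set.disjoint_left.mpr fun x hx hx' => hx ((hsub i).2 hx')
    let l' : LTSeries (PrimeSpectrum.zeroLocus (R := B) (P.map α : Set B)) :=
      ⟨l.length, fun i => ⟨⟨((l i).asIdeal.comap (Ideal.Quotient.mk P)).map α,
        IsLocalization.isPrime_of_isPrime_disjoint N.primeCompl B _ (Ideal.IsPrime.comap _) (hdisj i)⟩,
        Ideal.map_mono (hsub i).1⟩, fun i => by
          refine lt_of_le_of_ne (Ideal.map_mono (Ideal.comap_mono (l.step i).le)) fun e => (show l i.castSucc < l i.succ from l.step i).ne ?_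
          have h1 := congrArg (Ideal.comap α) e
          change Ideal.under W (Ideal.map (algebraMap W B) _) = Ideal.under W (Ideal.map (algebraMap W B) _) at h1
          rw [IsLocalization.under_map_of_isPrime_disjoint N.primeCompl B (Ideal.IsPrime.comap _) (hdisj _),
            IsLocalization.under_map_of_isPrime_disjoint N.primeCompl B (Ideal.IsPrime.comap _) (hdisj _)] at h1
          exact PrimeSpectrum.ext (Ideal.comap_injective_of_surjective _ Ideal.Quotient.mk_surjective h1)⟩
    rw [← hlen]
    exact le_iSup_of_le l' (le_of_eq rfl)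

theorem isEquidim_of_const {R : Type u} [CommRing R] (D : WithBot ℕ∞)
    (h : ∀ p ∈ minimalPrimes R, ringKrullDim (R ⧸ p) = D) : EGA4.IsEquidim R := by
  intro p hp
  refine le_antisymm (ringKrullDim_quotient_le p) (iSup_le fun l => ?_)
  obtain ⟨Q, hQ, hQle⟩ := Ideal.exists_minimalPrimes_le (I := (⊥ : Ideal R)) (J := l.head.asIdeal) bot_le
  rw [h p hp, ← h Q hQ, ringKrullDim_quotient]
  exact Order.le_krullDim_iff.mpr ⟨⟨l.length, fun i => ⟨l i, hQle.trans (l.monotone (Fin.zero_le i))⟩,
    fun i => l.step i⟩, rfl⟩

section Poly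

variable {S : Type u} [CommRing S] [IsLocalRing S] [IsNoetherianRing S] (n : ℕ)

/-- Localizations of polynomial rings over equidimensional catenary local rings are equidimensional. -/
theorem isEquidim_localization_polynomial (hcat : CAlg.IsCatenary S) (heq : EGA4.IsEquidim S)
    (N : Ideal (MvPolynomial (Fin n) S)) [N.IsPrime] : EGA4.IsEquidim (Localization.AtPrime N) := by
  let W := MvPolynomial (Fin n) S
  let ι : S →+* W := algebraMap S W
  let ns := N.comap ι
  haveI : ns.IsPrime := Ideal.IsPrime.comap _
  obtain ⟨d, hd⟩ := SerreReg.exists_dim_nat S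
  haveI : Nontrivial (S ⧸ ns) := Ideal.Quotient.nontrivial_iff.mpr (Ideal.IsPrime.ne_top inferInstance)
  obtain ⟨e, he⟩ := SerreReg.exists_dim_nat (S ⧸ ns)
  refine isEquidim_of_const ((((d - e : ℕ) : ℕ∞) + (N.map (Ideal.Quotient.mk (ns.map ι))).height : ℕ∞) : WithBot ℕ∞)
    fun P' hP' => ?_
  haveI := hP'.1.1
  let P := P'.comap (algebraMap W (Localization.AtPrime N))
  haveI : P.IsPrime := Ideal.IsPrime.comap _
  have hPN : P ≤ N := fun x hx => by_contra fun hxN =>
    hP'.1.1.ne_top (Ideal.eq_top_of_isUnit_mem _ hx (IsLocalization.map_units _ (⟨x, hxN⟩ : N.primeCompl)))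
  obtain ⟨Q, hQ, hQle⟩ := Ideal.exists_minimalPrimes_le (I := (⊥ : Ideal S)) (J := P.comap ι) bot_le
  haveI := hQ.1.1
  let π : W →+* MvPolynomial (Fin n) (S ⧸ Q) := MvPolynomial.map (Ideal.Quotient.mk Q)
  have hπ : Function.Surjective π := MvPolynomial.map_surjective _ Ideal.Quotient.mk_surjective
  have hkerπ : RingHom.ker π = Q.map ι := by
    rw [MvPolynomial.ker_map, Ideal.mk_ker]
    rfl
  haveI : (Q.map ι).IsPrime := hkerπ ▸ RingHom.ker_isPrime π
  have hQP : Q.map ι = P := by
    refine le_antisymm (Ideal.map_le_iff_le_comap.mpr hQle) ?_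
    have hle : Q.map ι ≤ N := (Ideal.map_le_iff_le_comap.mpr hQle).trans hPN
    have hd' : Disjoint (N.primeCompl : Set W) (Q.map ι : Set W) :=
      Set.disjoint_left.mpr fun x hx hx' => hx (hle hx')
    have h1 : P' ≤ (Q.map ι).map (algebraMap W (Localization.AtPrime N)) :=
      hP'.2 ⟨IsLocalization.isPrime_of_isPrime_disjoint N.primeCompl _ _ inferInstance hd', bot_le⟩
        (Ideal.map_le_iff_le_comap.mpr (Ideal.map_le_iff_le_comap.mpr hQle))
    exact (Ideal.comap_mono h1).trans_eq
      (IsLocalization.under_map_of_isPrime_disjoint N.primeCompl _ inferInstance hd')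
  have hPmap : P.map (algebraMap W (Localization.AtPrime N)) = P' := IsLocalization.map_under N.primeCompl _ P'
  rw [← hPmap, ringKrullDim_localization_quotient N P hPN]
  congr 1
  have hQns : Q ≤ ns := hQle.trans (Ideal.comap_mono hPN)
  obtain ⟨d', e', h, hd', he', hh, hsum, -⟩ := exists_height_add hcat hQns
  have hd'' : d' = d := by exact_mod_cast hd'.symm.trans ((heq Q hQ).trans hd)
  have he'' : e' = e := by exact_mod_cast he'.symm.trans he
  let n' := ns.map (Ideal.Quotient.mk Q)
  let N' := N.map π
  haveI : n'.IsPrime := Ideal.map_isPrime_of_surjective Ideal.Quotient.mk_surjective (by rwa [Ideal.mk_ker])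
  have hkerN : RingHom.ker π ≤ N := hkerπ.trans_le (hQP.trans_le hPN)
  haveI : N'.IsPrime := Ideal.map_isPrime_of_surjective hπ hkerN
  have hcm : N'.comap π = N := by
    rw [Ideal.comap_map_of_surjective _ hπ, ← RingHom.ker_eq_comap_bot, sup_eq_left.mpr hkerN]
  haveI : N'.LiesOver n' := ⟨by
    refine Ideal.comap_injective_of_surjective _ (Ideal.Quotient.mk_surjective (I := Q)) ?_
    rw [Ideal.comap_map_of_surjective _ Ideal.Quotient.mk_surjective, ← RingHom.ker_eq_comap_bot, Ideal.mk_ker,
      sup_eq_left.mpr hQns, Ideal.under_def, Ideal.comap_comap]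
    show N.comap ι = _
    rw [← hcm, Ideal.comap_comap]
    congr 1
    exact RingHom.ext fun r => MvPolynomial.map_C (Ideal.Quotient.mk Q) r⟩
  have key := Ideal.height_eq_height_add_of_liesOver_of_hasGoingDown n' N'
  have hn : n'.map (algebraMap _ (MvPolynomial (Fin n) (S ⧸ Q))) = (ns.map ι).map π := by
    rw [Ideal.map_map, Ideal.map_map]
    congr 1
    exact RingHom.ext fun r => (MvPolynomial.map_C (Ideal.Quotient.mk Q) r).symm
  rw [hn] at key
  have hlast := height_map_map π hπ (ns.map ι) (hkerπ.trans_le (Ideal.map_mono hQns)) N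
  rw [← hQP, ← hkerπ, ← height_map_of_ker π hπ, key, hlast, hh, show h = d - e by omega]

end Poly

attribute [local instance] MvPolynomial.algebraMvPolynomial

/-- A Noetherian local domain with equidimensional completion is universally catenary. -/
theorem isCatenary_polynomial_of_domain (T : Type u) [CommRing T] [IsLocalRing T] [IsNoetherianRing T]
    (h : EGA4.IsFormallyEquidim T) (n : ℕ) : CAlg.IsCatenary (MvPolynomial (Fin n) T) := by
  refine Catenary.isCatenary_of_forall_maximal fun N _ => ?_
  let S := AdicCompletion (maximalIdeal T) T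
  let R := MvPolynomial (Fin n) T
  let W := MvPolynomial (Fin n) S
  haveI : Module.FaithfullyFlat T S := Module.FaithfullyFlat.of_flat_of_isLocalHom
  haveI : Algebra.IsPushout T R S W := inferInstance
  haveI : Module.FaithfullyFlat R W :=
    Module.FaithfullyFlat.of_linearEquiv _ _ (Algebra.IsPushout.equiv T R S W).toLinearEquiv.symm
  obtain ⟨N', hN', hlies⟩ := Ideal.exists_isPrime_liesOver_of_faithfullyFlat (B := W) N
  letI := Localization.AtPrime.algebraOfLiesOver N N'
  haveI : IsLocalHom (algebraMap (Localization.AtPrime N) (Localization.AtPrime N')) :=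
    Localization.isLocalHom_localRingHom N N' (algebraMap R W) Ideal.LiesOver.over
  haveI : IsScalarTower R (Localization.AtPrime N) (Localization.AtPrime N') :=
    IsScalarTower.of_algebraMap_eq fun x => by
      rw [IsScalarTower.algebraMap_apply R W (Localization.AtPrime N')]
      exact (Localization.localRingHom_to_map N N' (algebraMap R W) Ideal.LiesOver.over x).symm
  haveI : Module.Flat W (Localization.AtPrime N') := IsLocalization.flat _ N'.primeCompl
  haveI : Module.Flat R (Localization.AtPrime N') := Module.Flat.trans R W _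
  haveI : Module.Flat (Localization.AtPrime N) (Localization.AtPrime N') :=
    (Module.flat_iff_of_isLocalization (Localization.AtPrime N) N.primeCompl _).mpr inferInstance
  have hSUC : CAlg.IsUniversallyCatenary S := isUniversallyCatenary_of_complete S
  exact (Catenary.isEquidim_and_isCatenary_of_flat
    (Catenary.isCatenary_of_isUniversallyCatenary
      (Catenary.isUniversallyCatenary_of_isLocalization N'.primeCompl (Localization.AtPrime N')
        (Catenary.isUniversallyCatenary_of_finiteType (B := W) hSUC)))
    (isEquidim_localization_polynomial n isCatenary_completion h N')).2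

/-- Formally catenary local rings are universally catenary. -/
theorem isUniversallyCatenary_of_formallyCatenary {A : Type u} [CommRing A] [IsLocalRing A] [IsNoetherianRing A]
    (hA : EGA4.IsFormallyCatenary A) : CAlg.IsUniversallyCatenary A := by
  refine Catenary.isUniversallyCatenary_of_polynomial fun n => Catenary.isCatenary_of_forall_minimalPrimes fun P hP => ?_
  haveI := hP.1.1
  let W := MvPolynomial (Fin n) A
  let p := P.comap (algebraMap A W)
  haveI : p.IsPrime := Ideal.IsPrime.comap _
  haveI : Nontrivial (A ⧸ p) := Ideal.Quotient.nontrivial_iff.mpr (Ideal.IsPrime.ne_top inferInstance)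
  let π : W →+* MvPolynomial (Fin n) (A ⧸ p) := MvPolynomial.map (Ideal.Quotient.mk p)
  have hπ : Function.Surjective π := MvPolynomial.map_surjective _ Ideal.Quotient.mk_surjective
  have hk : RingHom.ker π = p.map (algebraMap A W) := by
    rw [MvPolynomial.ker_map, Ideal.mk_ker]
    rfl
  have hle : RingHom.ker π ≤ P := hk.trans_le Ideal.map_comap_le
  have hPe : RingHom.ker π = P := le_antisymm hle (hP.2 ⟨RingHom.ker_isPrime π, bot_le⟩ hle)
  exact Catenary.isCatenary_of_ringEquiv
    ((Ideal.quotEquivOfEq hPe.symm).trans (RingHom.quotientKerEquivOfSurjective hπ)).symm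
    (isCatenary_polynomial_of_domain (A ⧸ p) (hA p) n)

end Groth.Agent.Cohen
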