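import Groth.Agent.Cohen.WittSub
import Groth.Prelude.Def_Found

/-!
# A Cohen ring for every field of characteristic `p`, and its maps to complete local rings
-/

set_option autoImplicit false
set_option linter.style.haveILetI false
universe u

open WittVector

namespace Groth.Agent.Cohen

noncomputable section

variable (p : ℕ) [hp : Fact p.Prime] {k : Type u} [Field k] [CharP k p] (B : Set k)

local notation "K" => PerfectClosure k p
local notation "W" => WittVector p (PerfectClosure k p)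

/-- The image at level `n`. -/
def T (n : ℕ) : Subring W := (ev p B (RingHom.id k) n).range

/-- Its saturation by `p^{n+1}`. -/
def D (n : ℕ) : Subring W :=
  ((Ideal.Quotient.mk (Ideal.span {(p : W) ^ (n + 1)})).comp (ev p B (RingHom.id k) n)).range.comap
    (Ideal.Quotient.mk (Ideal.span {(p : W) ^ (n + 1)}))

/-- The Cohen ring. -/
def C : Subring W := ⨅ n, D p B n

theorem mem_D {n : ℕ} {x : W} : x ∈ D p B n ↔ ∃ y ∈ T p B n, (p : W) ^ (n + 1) ∣ x - y := by
  constructor
  · rintro ⟨F, hF⟩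
    exact ⟨_, ⟨F, rfl⟩, Ideal.mem_span_singleton.mp (Ideal.Quotient.eq.mp hF.symm)⟩
  · rintro ⟨y, ⟨F, rfl⟩, h⟩
    exact ⟨F, (Ideal.Quotient.eq.mpr (Ideal.mem_span_singleton.mpr h)).symm⟩

theorem mem_C {x : W} : x ∈ C p B ↔ ∀ n, ∃ y ∈ T p B n, (p : W) ^ (n + 1) ∣ x - y := by
  rw [C, Subring.mem_iInf]
  exact forall_congr' fun n => mem_D p B

theorem T_anti {m n : ℕ} (h : m ≤ n) : T p B n ≤ T p B m := by
  induction h with
  | refl => exact le_rfl
  | step _ ih =>
    refine le_trans ?_ ih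
    rintro _ ⟨F, rfl⟩
    exact ⟨_, (ev_succ p B (RingHom.id k) _ F).symm⟩

theorem phi_mem (n : ℕ) (c : WittVector p k) : phi p n c ∈ T p B n :=
  ⟨MvPolynomial.C c, by
    show ev p B (RingHom.id k) n (MvPolynomial.C c) = _
    rw [ev, MvPolynomial.eval₂Hom_C, WittVector.map_id]
    rfl⟩

theorem basis_mem (n : ℕ) (b : ↥B) : teichmuller p (PerfectClosure.of k p (b : k)) ∈ T p B n :=
  ⟨MvPolynomial.X b, MvPolynomial.eval₂Hom_X' _ _ _⟩

theorem p_mul_mem {n : ℕ} {x : W} (hx : x ∈ T p B n) : (p : W) * x ∈ T p B (n + 1) := by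
  obtain ⟨F, rfl⟩ := hx
  induction F using MvPolynomial.induction_on' with
  | monomial e c =>
    refine ⟨MvPolynomial.monomial e (verschiebung c), ?_⟩
    simp only [ev, MvPolynomial.eval₂Hom_monomial, WittVector.map_id, RingHom.comp_apply, RingHom.id_apply,
      phi_verschiebung]
    ring
  | add P Q hP hQ =>
    rw [map_add, mul_add]
    exact add_mem hP hQ

theorem exists_decomp {R : Type*} [CommRing R] (c : WittVector p R) :
    ∃ d, c = teichmuller p (c.coeff 0) + verschiebung d := by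
  have h := eq_iterate_verschiebung (x := c - teichmuller p (c.coeff 0)) (n := 1) fun i hi => by
    obtain rfl : i = 0 := by omega
    show constantCoeff (c - teichmuller p (c.coeff 0)) = 0
    rw [map_sub]
    show c.coeff 0 - (teichmuller p (c.coeff 0)).coeff 0 = 0
    rw [teichmuller_coeff_zero, sub_self]
  simp only [Function.iterate_one] at h
  exact ⟨(c - teichmuller p (c.coeff 0)).shift 1, by rw [← h]; ring⟩

theorem T_pow_mem {n : ℕ} {x : W} (hx : x ∈ T p B (n + 1)) : x ^ p ∈ T p B (n + 2) := by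
  have key : ∀ u v : W, u ∈ T p B (n + 1) → v ∈ T p B (n + 1) → u ^ p ∈ T p B (n + 2) → v ^ p ∈ T p B (n + 2) →
      (u + v) ^ p ∈ T p B (n + 2) := fun u v hu hv hu' hv' => by
    obtain ⟨r, hr, he⟩ : ∃ r ∈ T p B (n + 1), (u + v) ^ p = u ^ p + v ^ p + (p : W) * r := by
      have h := (Commute.all (⟨u, hu⟩ : T p B (n + 1)) ⟨v, hv⟩).add_pow_prime_eq' hp.out
      exact ⟨_, Subtype.prop _, (congrArg Subtype.val h).trans (by
        simp only [Subring.coe_add, Subring.coe_mul, SubmonoidClass.coe_pow, SubringClass.coe_natCast]; rfl)⟩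
    rw [he]
    exact add_mem (add_mem hu' hv') (p_mul_mem p B hr)
  obtain ⟨F, rfl⟩ := hx
  induction F using MvPolynomial.induction_on with
  | C c =>
    rw [ev, MvPolynomial.eval₂Hom_C, WittVector.map_id, RingHom.comp_apply, RingHom.id_apply]
    obtain ⟨d, hd⟩ := exists_decomp p c
    rw [hd, map_add, phi_verschiebung]
    let A := phi p (n + 1) (teichmuller p (c.coeff 0))
    have hA : A ∈ T p B (n + 1) := phi_mem p B _ _
    have hAp : A ^ p ∈ T p B (n + 2) := by
      show (phi p (n + 1) (teichmuller p (c.coeff 0))) ^ p ∈ _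
      rw [phi_teichmuller, ← pow_mul, ← pow_succ, ← phi_teichmuller]
      exact phi_mem p B _ _
    have hv : (p : W) * phi p n d ∈ T p B (n + 1) := p_mul_mem p B (phi_mem p B _ _)
    refine key A _ hA hv hAp ?_
    obtain ⟨j, hj⟩ := Nat.exists_eq_add_of_le hp.out.two_le
    have : ((p : W) * phi p n d) ^ p = (p : W) * ((p : W) * ((p : W) ^ j * phi p n d ^ p)) := by
      rw [mul_pow]
      conv_lhs => arg 1; rw [show (p : W) ^ p = (p : W) ^ (2 + j) by rw [← hj]]
      rw [pow_add]
      ring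
    rw [this]
    exact p_mul_mem p B (p_mul_mem p B (mul_mem (pow_mem (natCast_mem _ _) _) (pow_mem (phi_mem p B _ _) _)))
  | add P Q hP hQ =>
    rw [map_add]
    exact key _ _ ⟨P, rfl⟩ ⟨Q, rfl⟩ hP hQ
  | mul_X P b hP =>
    rw [map_mul, mul_pow]
    refine mul_mem hP (pow_mem ?_ _)
    rw [ev, MvPolynomial.eval₂Hom_X']
    exact basis_mem p B _ b

theorem pow_pow_mem {x : W} (hx : x ∈ T p B 1) : ∀ j, x ^ p ^ j ∈ T p B (j + 1)
  | 0 => by simpa using hx
  | j + 1 => by
    rw [pow_succ, pow_mul]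
    exact T_pow_mem p B (pow_pow_mem hx j)

theorem p_dvd_sub {x y : W} (h : x.coeff 0 = y.coeff 0) : (p : W) ∣ x - y := by
  rw [← Ideal.mem_span_singleton, mem_span_p_iff_coeff_zero_eq_zero]
  show constantCoeff (x - y) = 0
  rw [map_sub]
  exact sub_eq_zero.mpr h

variable {B} (hgen : ∀ R : Subring k, (∀ c, c ^ p ∈ R) → B ⊆ R → R = ⊤)
include hgen

theorem exists_residue (a : k) : ∃ y ∈ T p B 1, y.coeff 0 = PerfectClosure.of k p a := by
  let R0 : Subring k := ((T p B 1).map constantCoeff).comap (PerfectClosure.of k p)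
  have h : R0 = ⊤ := hgen R0 (fun c => ⟨_, phi_mem p B 1 (teichmuller p c), by
      show constantCoeff (phi p 1 (teichmuller p c)) = _
      rw [phi_teichmuller, pow_one, map_pow, map_pow]
      rfl⟩)
    (fun b hb => ⟨_, basis_mem p B 1 ⟨b, hb⟩, teichmuller_coeff_zero p _⟩)
  exact (h.ge (Subring.mem_top a) : a ∈ R0)

theorem T_le_succ : ∀ (n : ℕ) (x : W), x ∈ T p B n → ∃ y ∈ T p B (n + 1), (p : W) ^ (n + 1) ∣ x - y := by
  intro n
  induction n with
  | zero =>
    intro x hx
    obtain ⟨F, rfl⟩ := hx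
    induction F using MvPolynomial.induction_on with
    | C c =>
      obtain ⟨y, hy, hy0⟩ := exists_residue p hgen (c.coeff 0)
      refine ⟨y, hy, ?_⟩
      rw [zero_add, pow_one]
      refine p_dvd_sub p ?_
      rw [hy0, ev, MvPolynomial.eval₂Hom_C, WittVector.map_id]
      simp [phi, map_coeff, iterateFrobenius_def]
    | add P Q hP hQ =>
      obtain ⟨y, hy, h⟩ := hP
      obtain ⟨y', hy', h'⟩ := hQ
      exact ⟨y + y', add_mem hy hy', by rw [map_add, add_sub_add_comm]; exact dvd_add h h'⟩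
    | mul_X P b hP =>
      obtain ⟨y, hy, h⟩ := hP
      refine ⟨y * _, mul_mem hy (basis_mem p B _ b), ?_⟩
      rw [map_mul, ev, MvPolynomial.eval₂Hom_X', ← sub_mul]
      exact h.mul_right _
  | succ n ih =>
    intro x hx
    obtain ⟨F, rfl⟩ := hx
    induction F using MvPolynomial.induction_on with
    | C c =>
      rw [ev, MvPolynomial.eval₂Hom_C, WittVector.map_id, RingHom.comp_apply, RingHom.id_apply]
      obtain ⟨d, hd⟩ := exists_decomp p c
      obtain ⟨y, hy, hy0⟩ := exists_residue p hgen (c.coeff 0)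
      obtain ⟨z, hz, hz'⟩ := ih _ (phi_mem p B n d)
      refine ⟨y ^ p ^ (n + 1) + (p : W) * z, add_mem (pow_pow_mem p B hy _) (p_mul_mem p B hz), ?_⟩
      rw [hd, map_add, phi_verschiebung, phi_teichmuller, add_sub_add_comm, ← mul_sub]
      refine dvd_add (dvd_sub_pow_of_dvd_sub (p_dvd_sub p ?_) _) ?_
      · rw [hy0, teichmuller_coeff_zero]
      · rw [pow_succ' _ (n + 1)]
        exact mul_dvd_mul_left _ hz'
    | add P Q hP hQ =>
      obtain ⟨y, hy, h⟩ := hP
      obtain ⟨y', hy', h'⟩ := hQ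
      exact ⟨y + y', add_mem hy hy', by rw [map_add, add_sub_add_comm]; exact dvd_add h h'⟩
    | mul_X P b hP =>
      obtain ⟨y, hy, h⟩ := hP
      refine ⟨y * _, mul_mem hy (basis_mem p B _ b), ?_⟩
      rw [map_mul, ev, MvPolynomial.eval₂Hom_X', ← sub_mul]
      exact h.mul_right _

theorem exists_mem_C (a : k) : ∃ x ∈ C p B, x.coeff 0 = PerfectClosure.of k p a := by
  classical
  obtain ⟨y, hy, hy0⟩ := exists_residue p hgen a
  choose next hnext1 hnext2 using T_le_succ p hgen
  obtain ⟨s, hs0, hsT, hs⟩ : ∃ s : ℕ → W, s 0 = y ∧ (∀ n, s n ∈ T p B n) ∧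
      ∀ n, (p : W) ^ (n + 1) ∣ s n - s (n + 1) := by
    let t : ∀ n, T p B n := fun n => Nat.rec ⟨y, T_anti p B (Nat.zero_le 1) hy⟩
      (fun n z => ⟨next n z.1 z.2, hnext1 n z.1 z.2⟩) n
    exact ⟨fun n => (t n).1, rfl, fun n => (t n).2, fun n => hnext2 n _ (t n).2⟩
  have hs' : ∀ {m n}, m ≤ n → (p : W) ^ (m + 1) ∣ s m - s n := fun {m n} hmn => by
    induction hmn with
    | refl => simp
    | @step j hj ih =>
      rw [← sub_add_sub_cancel _ (s j)]
      exact dvd_add ih ((pow_dvd_pow _ (Nat.succ_le_succ hj)).trans (hs j))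
  obtain ⟨L, hL⟩ := IsPrecomplete.prec (isAdicCompleteIdealSpanP (p := p) (k := K)).toIsPrecomplete
    (f := s) (fun {m n} hmn => by
      rw [SModEq.sub_mem, smul_eq_mul, Ideal.mul_top, Ideal.span_singleton_pow, Ideal.mem_span_singleton]
      exact (pow_dvd_pow _ (Nat.le_succ m)).trans (hs' hmn))
  have hL' : ∀ n, (p : W) ^ n ∣ s n - L := fun n => by
    have := hL n
    rwa [SModEq.sub_mem, smul_eq_mul, Ideal.mul_top, Ideal.span_singleton_pow, Ideal.mem_span_singleton] at this
  refine ⟨L, (mem_C p B).mpr fun n => ⟨s n, hsT n, ?_⟩, ?_⟩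
  · rw [← sub_add_sub_cancel L (s (n + 1))]
    exact dvd_add (dvd_sub_comm.mp (hL' (n + 1))) (dvd_sub_comm.mp (hs' (Nat.le_succ n)))
  · rw [← hy0]
    have h1 : (p : W) ∣ L - y := by
      rw [← sub_add_sub_cancel L (s 1)]
      exact dvd_add (by simpa using dvd_sub_comm.mp (hL' 1)) (by simpa [hs0] using dvd_sub_comm.mp (hs 0))
    rw [← Ideal.mem_span_singleton, mem_span_p_iff_coeff_zero_eq_zero] at h1
    have h2 : constantCoeff (L - y) = 0 := h1
    rw [map_sub, sub_eq_zero] at h2
    exact h2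

omit hgen
variable (hind : ∀ m, Indep p m B)
include hind

theorem mem_of_p_mul_mem {z : W} (h : (p : W) * z ∈ C p B) : z ∈ C p B := by
  rw [mem_C] at h ⊢
  intro n
  obtain ⟨y, ⟨F, rfl⟩, hy⟩ := h (n + 1)
  have h0 : (ev p B (RingHom.id k) (n + 1) F).coeff 0 = 0 := by
    rw [← mem_span_p_iff_coeff_zero_eq_zero, Ideal.mem_span_singleton]
    exact (dvd_sub_right (Dvd.intro z rfl)).mp ((dvd_pow_self _ (by omega)).trans hy)
  obtain ⟨H, hH, -⟩ := exists_div p (RingHom.id k) hind (fun b => (b : k)) (fun b => rfl) n F h0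
  refine ⟨_, ⟨H, rfl⟩, ?_⟩
  rw [hH, ← mul_sub, pow_succ', mul_dvd_mul_iff_left (p_nonzero p K)] at hy
  exact hy

instance : IsDomain (C p B) := Subring.instIsDomainSubtypeMem _

theorem isAdicComplete_C : IsAdicComplete (Ideal.span {(p : C p B)}) (C p B) := by
  have hW : IsAdicComplete (Ideal.span {(p : W)}) W := isAdicCompleteIdealSpanP
  have hdvd : ∀ (n : ℕ) (x : C p B), (p : C p B) ^ n ∣ x ↔ (p : W) ^ n ∣ (x : W) := by
    intro n
    induction n with
    | zero => simp
    | succ n ih =>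
      intro x
      refine ⟨fun h => by simpa using map_dvd (C p B).subtype h, fun ⟨z, hz⟩ => ?_⟩
      have hz' : (x : W) = (p : W) * ((p : W) ^ n * z) := by rw [hz]; ring
      obtain ⟨w, hw⟩ := (ih ⟨_, mem_of_p_mul_mem p hind (hz' ▸ x.2)⟩).mpr ⟨z, rfl⟩
      refine ⟨w, Subtype.ext ?_⟩
      rw [hz', show (p : W) ^ n * z = ((⟨_, mem_of_p_mul_mem p hind (hz' ▸ x.2)⟩ : C p B) : W) from rfl, hw]
      push_cast
      ring
  refine { haus' := fun x hx => ?_, prec' := fun f hf => ?_ }
  · refine Subtype.ext (hW.haus' _ fun n => ?_)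
    have := hx n
    rw [SModEq.sub_mem, sub_zero, smul_eq_mul, Ideal.mul_top, Ideal.span_singleton_pow, Ideal.mem_span_singleton] at this ⊢
    exact (hdvd n x).mp this
  · obtain ⟨L, hL⟩ := hW.toIsPrecomplete.prec' (fun n => (f n : W)) (fun {m n} hmn => by
      have := hf hmn
      rw [SModEq.sub_mem, smul_eq_mul, Ideal.mul_top, Ideal.span_singleton_pow, Ideal.mem_span_singleton] at this ⊢
      exact_mod_cast (hdvd m _).mp this)
    have hL' : ∀ n, (p : W) ^ n ∣ (f n : W) - L := fun n => by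
      have := hL n
      rwa [SModEq.sub_mem, smul_eq_mul, Ideal.mul_top, Ideal.span_singleton_pow, Ideal.mem_span_singleton] at this
    have hLC : L ∈ C p B := (mem_C p B).mpr fun n => by
      obtain ⟨y, hy, h⟩ := (mem_C p B).mp (f (n + 1)).2 n
      refine ⟨y, hy, ?_⟩
      rw [← sub_add_sub_cancel L (f (n + 1) : W)]
      exact dvd_add (dvd_sub_comm.mp (hL' (n + 1))) h
    refine ⟨⟨L, hLC⟩, fun n => ?_⟩
    rw [SModEq.sub_mem, smul_eq_mul, Ideal.mul_top, Ideal.span_singleton_pow, Ideal.mem_span_singleton, hdvd]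
    exact hL' n

theorem isUnit_of_coeff_ne_zero (hgen : ∀ R : Subring k, (∀ c, c ^ p ∈ R) → B ⊆ R → R = ⊤) {x : C p B}
    (hx : (x : W).coeff 0 ≠ 0) : IsUnit x := by
  obtain ⟨y, ⟨F, rfl⟩, hy⟩ := (mem_C p B).mp x.2 0
  obtain ⟨a, ha⟩ : ∃ a, (x : W).coeff 0 = PerfectClosure.of k p a := by
    let R0 : Subring W := (PerfectClosure.of k p).range.comap constantCoeff
    have h : ev p B (RingHom.id k) 0 F ∈ R0 := by
      clear hy
      induction F using MvPolynomial.induction_on' with
      | monomial e c =>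
        rw [ev, MvPolynomial.eval₂Hom_monomial]
        refine mul_mem ⟨c.coeff 0, ?_⟩ (Subring.prod_mem _ fun b _ => pow_mem (show _ ∈ R0 from ⟨(b : k), (teichmuller_coeff_zero p _).symm⟩) _)
        show _ = (phi p 0 (WittVector.map (RingHom.id k) c)).coeff 0
        simp [phi, map_coeff, iterateFrobenius_def]
      | add P Q hP hQ => rw [map_add]; exact add_mem hP hQ
    obtain ⟨a, ha⟩ := h
    refine ⟨a, ?_⟩
    rw [zero_add, pow_one, ← Ideal.mem_span_singleton, mem_span_p_iff_coeff_zero_eq_zero] at hy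
    have h2 : constantCoeff ((x : W) - ev p B (RingHom.id k) 0 F) = 0 := hy
    rw [map_sub, sub_eq_zero, ← ha] at h2
    exact h2
  obtain ⟨z, hz, hz0⟩ := exists_mem_C p hgen a⁻¹
  have h1 : (1 - x * ⟨z, hz⟩ : C p B) ∈ Ideal.span {(p : C p B)} := by
    obtain ⟨w, hw⟩ : (p : W) ∣ 1 - (x : W) * z := p_dvd_sub p (by
      rw [WittVector.one_coeff_zero, mul_coeff_zero, ha, hz0, ← map_mul, mul_inv_cancel₀ ?_, map_one]
      rintro rfl
      exact hx (ha.trans (map_zero _)))
    exact Ideal.mem_span_singleton.mpr ⟨⟨w, mem_of_p_mul_mem p hind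
      (hw ▸ sub_mem (one_mem _) (mul_mem x.2 hz))⟩, Subtype.ext hw⟩
  haveI := isAdicComplete_C p hind
  have h2 := Ideal.mem_jacobson_bot.mp (IsAdicComplete.le_jacobson_bot (Ideal.span {(p : C p B)}) h1) (-1)
  rw [show (1 - x * ⟨z, hz⟩ : C p B) * -1 + 1 = x * ⟨z, hz⟩ by ring] at h2
  exact isUnit_of_mul_isUnit_left h2

theorem isCohenRing_C (hgen : ∀ R : Subring k, (∀ c, c ^ p ∈ R) → B ⊆ R → R = ⊤) :
    ∃ _ : IsLocalRing (C p B), CAlg.IsCohenRing (C p B) ∧
      ∃ r : C p B →+* k, Function.Surjective r ∧ ∀ x, PerfectClosure.of k p (r x) = (x : W).coeff 0 := by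
  classical
  have hpne : (p : C p B) ≠ 0 := fun h => p_nonzero p K (by simpa using congrArg Subtype.val h)
  have hpnu : ¬ IsUnit (p : C p B) := fun h => (WittVector.irreducible (p := p) (k := K)).not_isUnit
    (by simpa using h.map (C p B).subtype)
  have hfac : ∀ {x : C p B}, x ≠ 0 → ∃ n : ℕ, Associated ((p : C p B) ^ n) x := by
    intro x hx
    obtain ⟨n, w, hw, hxw⟩ := WittVector.exists_eq_pow_p_mul (x : W) (fun h => hx (Subtype.ext h))
    have hwC : ∀ m : ℕ, ∀ v : W, (p : W) ^ m * v ∈ C p B → v ∈ C p B := by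
      intro m
      induction m with
      | zero => simp
      | succ m ih =>
        intro v hv
        rw [pow_succ', mul_assoc] at hv
        exact ih v (mem_of_p_mul_mem p hind hv)
    have hu := isUnit_of_coeff_ne_zero p hind hgen (x := ⟨w, hwC n w (hxw ▸ x.2)⟩) hw
    obtain ⟨v, hv⟩ := hu
    refine ⟨n, v, ?_⟩
    rw [hv]
    exact Subtype.ext (by simpa using hxw.symm)
  have hirr : Irreducible (p : C p B) := by
    refine ⟨hpnu, fun a b hab => ?_⟩
    have h1 : (a : W).coeff 0 * (b : W).coeff 0 = 0 := by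
      rw [← mul_coeff_zero, ← Subring.coe_mul, ← hab, ← mem_span_p_iff_coeff_zero_eq_zero]
      exact Ideal.mem_span_singleton.mpr (by simp)
    by_contra! hne
    rcases mul_eq_zero.mp h1 with h | h
    · exact hne.2 (isUnit_of_coeff_ne_zero p hind hgen fun hb => by
        obtain ⟨a', ha'⟩ := Ideal.mem_span_singleton.mp ((mem_span_p_iff_coeff_zero_eq_zero _).mpr h)
        obtain ⟨b', hb'⟩ := Ideal.mem_span_singleton.mp ((mem_span_p_iff_coeff_zero_eq_zero _).mpr hb)
        have h2 : (p : W) = (p : W) * a' * ((p : W) * b') := by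
          rw [← ha', ← hb', ← Subring.coe_mul, ← hab]
          simp
        refine (WittVector.irreducible (p := p) (k := K)).not_isUnit (isUnit_of_dvd_one ⟨a' * b', ?_⟩)
        refine mul_left_cancel₀ (p_nonzero p K) ?_
        rw [mul_one]
        linear_combination h2)
    · exact hne.1 (isUnit_of_coeff_ne_zero p hind hgen fun ha => by
        obtain ⟨a', ha'⟩ := Ideal.mem_span_singleton.mp ((mem_span_p_iff_coeff_zero_eq_zero _).mpr ha)
        obtain ⟨b', hb'⟩ := Ideal.mem_span_singleton.mp ((mem_span_p_iff_coeff_zero_eq_zero _).mpr h)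
        have h2 : (p : W) = (p : W) * a' * ((p : W) * b') := by
          rw [← ha', ← hb', ← Subring.coe_mul, ← hab]
          simp
        refine (WittVector.irreducible (p := p) (k := K)).not_isUnit (isUnit_of_dvd_one ⟨a' * b', ?_⟩)
        refine mul_left_cancel₀ (p_nonzero p K) ?_
        rw [mul_one]
        linear_combination h2)
  haveI : IsDiscreteValuationRing (C p B) :=
    IsDiscreteValuationRing.ofHasUnitMulPowIrreducibleFactorization ⟨_, hirr, hfac⟩
  have hmax : IsLocalRing.maximalIdeal (C p B) = Ideal.span {(p : C p B)} := hirr.maximalIdeal_eq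
  have hres : ∀ x : C p B, (x : W).coeff 0 ∈ (PerfectClosure.of k p).range := by
    intro x
    obtain ⟨a, ha⟩ : ∃ a, (x : W).coeff 0 = PerfectClosure.of k p a := by
      obtain ⟨y, hy, h⟩ := (mem_C p B).mp x.2 0
      obtain ⟨F, rfl⟩ := hy
      refine ⟨evR p B (fun b : ↥B => (b : k)) 0 F, ?_⟩
      rw [zero_add, pow_one, ← Ideal.mem_span_singleton, mem_span_p_iff_coeff_zero_eq_zero] at h
      have h2 : constantCoeff ((x : W) - ev p B (RingHom.id k) 0 F) = 0 := h
      rw [map_sub, sub_eq_zero] at h2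
      refine h2.trans ?_
      show (constantCoeff.comp (ev p B (RingHom.id k) 0)) F = ((PerfectClosure.of k p).comp (evR p B _ 0)) F
      congr 1
      refine MvPolynomial.ringHom_ext (fun c => ?_) fun b => ?_
      · simp only [ev, evR, RingHom.comp_apply, MvPolynomial.eval₂Hom_C]
        show (phi p 0 (WittVector.map (RingHom.id k) c)).coeff 0 = _
        simp [phi, map_coeff, iterateFrobenius_def, ghostComponent_apply, aeval_wittPolynomial]
      · simp only [ev, evR, RingHom.comp_apply, MvPolynomial.eval₂Hom_X']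
        rfl
    exact ⟨a, ha.symm⟩
  let e := RingEquiv.ofBijective (PerfectClosure.of k p).rangeRestrict
    ⟨fun a b h => (PerfectClosure.of k p).injective (congrArg Subtype.val h),
      (PerfectClosure.of k p).rangeRestrict_surjective⟩
  let r : C p B →+* k := e.symm.toRingHom.comp ((constantCoeff.comp (C p B).subtype).codRestrict _ hres)
  have hr : ∀ x, PerfectClosure.of k p (r x) = (x : W).coeff 0 := fun x =>
    congrArg Subtype.val (e.apply_symm_apply ⟨_, hres x⟩)
  refine ⟨inferInstance, ⟨inferInstance, inferInstance, hmax ▸ isAdicComplete_C p hind, p, hp.out, hmax⟩, r,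
    fun a => ?_, hr⟩
  obtain ⟨x, hx, hx0⟩ := exists_mem_C p hgen a
  exact ⟨⟨x, hx⟩, (PerfectClosure.of k p).injective (by rw [hr]; exact hx0)⟩

/-- A Cohen ring maps to every complete local ring with the same residue field. -/
theorem exists_lift {R : Type u} [CommRing R] (π : R →+* k) (hπ : Function.Surjective π)
    [IsAdicComplete (RingHom.ker π) R] :
    ∃ θ : C p B →+* R, ∀ x, PerfectClosure.of k p (π (θ x)) = ((x : C p B) : W).coeff 0 := by
  classical
  choose β hβ using fun b : ↥B => hπ (b : k)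
  let m := RingHom.ker π
  have hev : ∀ n (F : MvPolynomial ↥B (WittVector p R)),
      ev p B π n F = ev p B (RingHom.id k) n (MvPolynomial.map (WittVector.map π) F) := fun n F => by
    rw [ev, ev, MvPolynomial.eval₂Hom_map_hom, WittVector.map_id, RingHom.comp_id]
  have hsurj : ∀ n (G : MvPolynomial ↥B (WittVector p k)), ∃ F, ev p B π n F = ev p B (RingHom.id k) n G := fun n G => by
    obtain ⟨F, rfl⟩ := MvPolynomial.map_surjective _ (WittVector.map_surjective π hπ) G
    exact ⟨F, hev n F⟩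
  let α : ∀ n, MvPolynomial ↥B (WittVector p R) →+* W ⧸ Ideal.span {(p : W) ^ (n + 1)} := fun n =>
    (Ideal.Quotient.mk _).comp (ev p B π n)
  let g : ∀ n, MvPolynomial ↥B (WittVector p R) →+* R ⧸ m ^ (n + 1) := fun n =>
    (Ideal.Quotient.mk _).comp (evR p B β n)
  have hker : ∀ n, RingHom.ker (α n).rangeRestrict ≤ RingHom.ker (g n) := fun n F hF => by
    rw [RingHom.mem_ker] at hF ⊢
    refine Ideal.Quotient.eq_zero_iff_mem.mpr (evR_mem p π hind β hβ n F (Ideal.mem_span_singleton.mp ?_))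
    exact Ideal.Quotient.eq_zero_iff_mem.mp (congrArg Subtype.val hF)
  have hC : ∀ n (x : C p B), Ideal.Quotient.mk (Ideal.span {(p : W) ^ (n + 1)}) (x : W) ∈ (α n).range := fun n x => by
    obtain ⟨y, ⟨G, rfl⟩, hy⟩ := (mem_C p B).mp x.2 n
    obtain ⟨F, hF⟩ := hsurj n G
    refine ⟨F, (Ideal.Quotient.eq.mpr (Ideal.mem_span_singleton.mpr ?_)).symm⟩
    rwa [hF]
  let θn : ∀ n, C p B →+* R ⧸ m ^ (n + 1) := fun n =>
    ((α n).rangeRestrict.liftOfSurjective (α n).rangeRestrict_surjective ⟨g n, hker n⟩).comp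
      (((Ideal.Quotient.mk _).comp (C p B).subtype).codRestrict (α n).range (hC n))
  have hθ : ∀ n (x : C p B) (F : MvPolynomial ↥B (WittVector p R)), (p : W) ^ (n + 1) ∣ (x : W) - ev p B π n F →
      θn n x = g n F := fun n x F h => by
    show (α n).rangeRestrict.liftOfSurjective (α n).rangeRestrict_surjective ⟨g n, hker n⟩ ⟨_, hC n x⟩ = _
    rw [show (⟨_, hC n x⟩ : (α n).range) = (α n).rangeRestrict F from
      Subtype.ext (Ideal.Quotient.eq.mpr (Ideal.mem_span_singleton.mpr h))]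
    exact RingHom.liftOfSurjective_comp_apply _ _ _ F
  have hex : ∀ n (x : C p B), ∃ F, (p : W) ^ (n + 1) ∣ (x : W) - ev p B π n F := fun n x => by
    obtain ⟨y, ⟨G, rfl⟩, hy⟩ := (mem_C p B).mp x.2 n
    obtain ⟨F, hF⟩ := hsurj n G
    exact ⟨F, by rwa [hF]⟩
  have hcompat : ∀ {j : ℕ}, (Ideal.Quotient.factorPow m (Nat.succ_le_succ j.le_succ)).comp (θn (j + 1)) = θn j :=
    fun {j} => RingHom.ext fun x => by
      obtain ⟨F, hF⟩ := hex (j + 1) x
      rw [RingHom.comp_apply, hθ _ x F hF, hθ j x (MvPolynomial.map WittVector.frobenius F) ?_]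
      · show Ideal.Quotient.factorPow m _ (Ideal.Quotient.mk _ (evR p B β (j + 1) F)) = Ideal.Quotient.mk _ _
        rw [Ideal.Quotient.factor_mk, evR_succ]
      · rw [← ev_succ]
        exact (pow_dvd_pow _ (Nat.le_succ _)).trans hF
  have hmono : StrictMono (fun n : ℕ => n + 1) := fun a b h => Nat.succ_lt_succ h
  refine ⟨IsAdicComplete.StrictMono.liftRingHom m hmono θn hcompat, fun x => ?_⟩
  have h1 := IsAdicComplete.StrictMono.mk_liftRingHom m hmono θn hcompat (n := 0) x
  obtain ⟨F, hF⟩ := hex 0 x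
  rw [hθ 0 x F hF, RingHom.comp_apply, Ideal.Quotient.eq, zero_add, pow_one, RingHom.mem_ker, map_sub, sub_eq_zero] at h1
  rw [h1]
  rw [zero_add, pow_one, ← Ideal.mem_span_singleton, mem_span_p_iff_coeff_zero_eq_zero] at hF
  have h2 : constantCoeff ((x : W) - ev p B π 0 F) = 0 := hF
  rw [map_sub, sub_eq_zero] at h2
  refine Eq.trans ?_ h2.symm
  show ((PerfectClosure.of k p).comp (π.comp (evR p B β 0))) F = (constantCoeff.comp (ev p B π 0)) F
  congr 1
  refine MvPolynomial.ringHom_ext (fun c => ?_) fun b => ?_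
  · simp only [ev, evR, RingHom.comp_apply, MvPolynomial.eval₂Hom_C]
    show _ = (phi p 0 (WittVector.map π c)).coeff 0
    simp [phi, map_coeff, iterateFrobenius_def, ghostComponent_apply, aeval_wittPolynomial]
  · simp only [ev, evR, RingHom.comp_apply, MvPolynomial.eval₂Hom_X', hβ]
    rfl

end

end Groth.Agent.Cohen
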