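import Mathlib

/-!
# Existence of a `p`-basis of a field of characteristic `p`, with all levels of independence
-/

set_option autoImplicit false
set_option linter.style.haveILetI false
universe u

open Polynomial

namespace Groth.Agent.Cohen

variable (p : ℕ) [Fact p.Prime] {k : Type u} [Field k] [CharP k p]

/-- The monomial attached to an exponent vector supported in `k`. -/
noncomputable def mon (e : k →₀ ℕ) : k := e.prod fun x n => x ^ n

/-- Reduced monomials in `B` of level `m` are independent over `k^{p^m}`. -/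
def Indep (m : ℕ) (B : Set k) : Prop :=
  ∀ f : (k →₀ ℕ) →₀ k, (∀ e ∈ f.support, (e.support : Set k) ⊆ B ∧ ∀ x, e x < p ^ m) →
    f.sum (fun e c => c ^ p ^ m * mon e) = 0 → f = 0

omit [Fact p.Prime] [CharP k p] in
theorem mon_add (e e' : k →₀ ℕ) : mon (e + e') = mon e * mon e' :=
  Finsupp.prod_add_index' (fun _ => pow_zero _) (fun _ _ _ => pow_add _ _ _)

omit [Fact p.Prime] [CharP k p] in
theorem mon_nsmul (n : ℕ) (e : k →₀ ℕ) : mon (n • e) = mon e ^ n := by
  induction n with
  | zero => rw [zero_nsmul, pow_zero]; exact Finsupp.prod_zero_index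
  | succ n ih => rw [succ_nsmul, mon_add, ih, pow_succ]

theorem indep_empty : Indep p 1 (∅ : Set k) := by
  intro f hf hsum
  have h0 : ∀ e ∈ f.support, e = 0 := fun e he =>
    Finsupp.support_eq_empty.mp (Finset.coe_eq_empty.mp (Set.subset_empty_iff.mp (hf e he).1))
  have hf' : f = Finsupp.single 0 (f 0) := by
    refine Finsupp.ext fun e => ?_
    by_cases he : e = 0
    · rw [he, Finsupp.single_eq_same]
    · rw [Finsupp.single_eq_of_ne he]
      exact Finsupp.notMem_support_iff.mp fun h => he (h0 e h)
  rw [hf', Finsupp.sum_single_index (by simp [(Fact.out : p.Prime).ne_zero])] at hsum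
  rw [hf', Finsupp.single_eq_zero]
  have : mon (0 : k →₀ ℕ) = 1 := Finsupp.prod_zero_index
  rw [this, mul_one] at hsum
  exact eq_zero_of_pow_eq_zero hsum

/-- A maximal independent set generates over the `p`-th powers. -/
theorem exists_indep_generating :
    ∃ B : Set k, Indep p 1 B ∧ ∀ R : Subring k, (∀ c, c ^ p ∈ R) → B ⊆ R → R = ⊤ := by
  classical
  obtain ⟨B, hB, hmax⟩ : ∃ B, B ∈ {B : Set k | Indep p 1 B} ∧ ∀ B' ∈ {B : Set k | Indep p 1 B}, B ⊆ B' → B' = B := by
    obtain ⟨B, hB⟩ := zorn_subset {B : Set k | Indep p 1 B} fun C hC hchain => by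
      rcases C.eq_empty_or_nonempty with rfl | hne
      · exact ⟨∅, indep_empty p, by simp⟩
      refine ⟨⋃₀ C, fun f hf hsum => ?_, fun s hs => Set.subset_sUnion_of_mem hs⟩
      obtain ⟨s, hs, hsub⟩ := hchain.directedOn.exists_mem_subset_of_finset_subset_biUnion hne
        (f := id) (s := f.support.biUnion Finsupp.support) (by
          intro x hx
          obtain ⟨e, he, hxe⟩ := Finset.mem_biUnion.mp hx
          obtain ⟨s, hs, hxs⟩ := (hf e he).1 hxe
          exact Set.mem_biUnion (t := fun i => id i) hs hxs)
      exact hC hs f (fun e he => ⟨fun x hx => hsub (Finset.mem_biUnion.mpr ⟨e, he, hx⟩), (hf e he).2⟩) hsum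
    exact ⟨B, hB.1, fun B' hB' h => (hB.eq_of_subset hB' h).symm⟩
  refine ⟨B, hB, fun R hR hBR => eq_top_iff.mpr fun a _ => ?_⟩
  by_contra ha
  have haB : a ∉ B := fun h => ha (hBR h)
  have hinv : ∀ x ∈ R, x⁻¹ ∈ R := fun x hx => by
    rcases eq_or_ne x 0 with rfl | h0
    · rw [inv_zero]; exact R.zero_mem
    have : x⁻¹ = x ^ (p - 1) * (x⁻¹) ^ p := by
      conv_rhs => rw [← Nat.sub_add_cancel (Fact.out : p.Prime).one_le]
      rw [pow_succ, ← mul_assoc, Nat.add_sub_cancel, ← mul_pow, mul_inv_cancel₀ h0, one_pow, one_mul]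
    rw [this]
    exact R.mul_mem (R.pow_mem hx _) (hR _)
  let S : Subfield k := { R with inv_mem' := hinv }
  let ap : S := ⟨a ^ p, hR a⟩
  have hirr : Irreducible (X ^ p - C ap) := X_pow_sub_C_irreducible_of_prime (Fact.out : p.Prime) fun b hb => by
    have h1 : (b : k) ^ p = a ^ p := congrArg Subtype.val hb
    exact ha (frobenius_inj k p h1 ▸ b.2)
  refine haB ((hmax (insert a B) ?_ (Set.subset_insert a B)).le (Set.mem_insert a B))
  intro f hf hsum
  let g : ℕ → k := fun j => ∑ e ∈ f.support.filter (fun e => e a = j), f e ^ p * mon (e.erase a)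
  have hg : ∀ j, g j ∈ R := fun j => R.sum_mem fun e he => R.mul_mem (hR _) (R.prod_mem fun x hx => by
    rw [Finsupp.support_erase, Finset.mem_erase] at hx
    exact R.pow_mem (hBR (((hf e (Finset.mem_filter.mp he).1).1 hx.2).resolve_left hx.1)) _)
  let P : Polynomial S := ∑ j ∈ Finset.range p, C (⟨g j, hg j⟩ : S) * X ^ j
  have hlt : ∀ e ∈ f.support, e a < p := fun e he => by simpa using (hf e he).2 a
  have hP : aeval a P = 0 := by
    rw [map_sum, ← hsum]
    simp only [map_mul, map_pow, aeval_C, aeval_X]
    rw [Finsupp.sum, ← Finset.sum_fiberwise_of_maps_to (g := fun e => e a) (t := Finset.range p)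
      (fun e he => Finset.mem_range.mpr (hlt e he))]
    refine Finset.sum_congr rfl fun j _ => ?_
    show g j * a ^ j = _
    rw [Finset.sum_mul]
    refine Finset.sum_congr rfl fun e he => ?_
    obtain ⟨-, rfl⟩ := Finset.mem_filter.mp he
    rw [pow_one, mul_assoc]
    congr 1
    conv_rhs => rw [← Finsupp.erase_add_single a e, mon_add]
    congr 1
    exact (Finsupp.prod_single_index (h := fun (x : k) n => x ^ n) (pow_zero a)).symm
  have hP0 : P = 0 := by
    by_contra hne
    have h1 : X ^ p - C ap = minpoly S a := minpoly.eq_of_irreducible_of_monic hirr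
      (by simp only [map_sub, map_pow, aeval_X, aeval_C]; exact sub_self _)
      (monic_X_pow_sub_C _ (Fact.out : p.Prime).ne_zero)
    have h2 := natDegree_le_of_dvd (minpoly.dvd S a hP) hne
    rw [← h1, natDegree_X_pow_sub_C] at h2
    have h3 : P.natDegree ≤ p - 1 := natDegree_sum_le_of_forall_le _ _ fun j hj =>
      (natDegree_C_mul_X_pow_le _ _).trans (by have := Finset.mem_range.mp hj; omega)
    have := (Fact.out : p.Prime).pos
    omega
  refine Finsupp.ext fun e => ?_
  by_contra he
  have hes : e ∈ f.support := Finsupp.mem_support_iff.mpr he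
  have hgj : g (e a) = 0 := by
    have := congrArg (fun Q : Polynomial S => ((Q.coeff (e a) : S) : k)) hP0
    simp only [P, finsetSum_coeff, coeff_C_mul_X_pow, coeff_zero] at this
    rw [Finset.sum_ite_eq (Finset.range p) (e a), if_pos (Finset.mem_range.mpr (hlt e hes))] at this
    exact this
  let f' := f.filter fun e' => e' a = e a
  have hinj : Set.InjOn (fun e' : k →₀ ℕ => e'.erase a) {e' | e' a = e a} := fun x hx y hy h => by
    rw [← Finsupp.erase_add_single a x, ← Finsupp.erase_add_single a y, show x a = y a from hx.trans hy.symm,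
      show x.erase a = y.erase a from h]
  have hsub : (f'.support : Set (k →₀ ℕ)) ⊆ {e' | e' a = e a} := fun x hx => by
    rw [Finsupp.support_filter] at hx
    exact (Finset.mem_filter.mp hx).2
  have h0 := hB (f'.mapDomain fun e' => e'.erase a) (fun d hd => by
    obtain ⟨x, hx, rfl⟩ := Finset.mem_image.mp (Finsupp.mapDomain_support hd)
    rw [Finsupp.support_filter, Finset.mem_filter] at hx
    refine ⟨fun z hz => ?_, fun z => ?_⟩
    · rw [Finset.mem_coe, Finsupp.support_erase, Finset.mem_erase] at hz
      exact ((hf x hx.1).1 hz.2).resolve_left hz.1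
    · by_cases hz : z = a
      · rw [hz, Finsupp.erase_same]
        exact pow_pos (Fact.out : p.Prime).pos 1
      · rw [Finsupp.erase_ne hz]
        exact (hf x hx.1).2 z) (by
    rw [Finsupp.sum_mapDomain_index (fun _ => by simp [(Fact.out : p.Prime).ne_zero])
      (fun _ c c' => by rw [pow_one, add_pow_char, add_mul]), ← hgj]
    rw [Finsupp.sum, Finsupp.support_filter]
    refine Finset.sum_congr rfl fun x hx => ?_
    rw [Finsupp.filter_apply, if_pos (Finset.mem_filter.mp hx).2, pow_one])
  have h1 := DFunLike.congr_fun h0 (e.erase a)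
  rw [Finsupp.mapDomain_apply' _ f' hsub hinj (show e ∈ {e' : k →₀ ℕ | e' a = e a} from rfl),
    Finsupp.filter_apply, if_pos rfl] at h1
  exact he h1

theorem indep_all {B : Set k} (hB : Indep p 1 B) : ∀ m, Indep p m B := by
  classical
  intro m
  induction m with
  | zero =>
    intro f hf hsum
    refine indep_empty (p := p) f (fun e he => ?_) ?_
    · have h0 : e = 0 := Finsupp.ext fun x => by simpa using (hf e he).2 x
      subst h0
      exact ⟨by simp, fun x => by simp [(Fact.out : p.Prime).pos]⟩
    · have hsupp : ∀ e ∈ f.support, e = 0 := fun e he => Finsupp.ext fun x => by simpa using (hf e he).2 x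
      rw [Finsupp.sum] at hsum ⊢
      have : f = 0 := by
        refine Finsupp.ext fun e => ?_
        by_contra he
        have hes : e ∈ f.support := Finsupp.mem_support_iff.mpr he
        rw [Finset.sum_eq_single_of_mem e hes (fun b hb hbe => absurd ((hsupp b hb).trans (hsupp e hes).symm) hbe)] at hsum
        rw [hsupp e hes] at hsum he
        simp [mon] at hsum
        exact he hsum
      simp [this]
  | succ m ih =>
    intro f hf hsum
    have hp : 0 < p := (Fact.out : p.Prime).pos
    let quo : (k →₀ ℕ) → (k →₀ ℕ) := fun e => e.mapRange (· / p) (Nat.zero_div p)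
    let rem : (k →₀ ℕ) → (k →₀ ℕ) := fun e => e.mapRange (· % p) (Nat.zero_mod p)
    have hdec : ∀ e, e = p • quo e + rem e := fun e => Finsupp.ext fun x => by
      simp [quo, rem, Nat.div_add_mod]
    let G : (k →₀ ℕ) → k := fun r => ∑ e ∈ f.support.filter (fun e => rem e = r), f e ^ p ^ m * mon (quo e)
    let h : (k →₀ ℕ) →₀ k := Finsupp.onFinset (f.support.image rem) G (fun r hr => by
      by_contra hnm
      refine hr (Finset.sum_eq_zero fun e he => ?_)
      exact absurd (Finset.mem_image.mpr ⟨e, (Finset.mem_filter.mp he).1, (Finset.mem_filter.mp he).2⟩) hnm)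
    have hh := hB h (fun r hr => by
      obtain ⟨e, he, rfl⟩ := Finset.mem_image.mp (Finsupp.support_onFinset_subset hr)
      exact ⟨fun x hx => (hf e he).1 (Finsupp.support_mapRange hx), fun x => by
        rw [pow_one]
        exact Nat.mod_lt _ hp⟩) (by
      rw [Finsupp.onFinset_sum _ (fun _ => by simp [hp.ne']), ← hsum, Finsupp.sum,
        ← Finset.sum_fiberwise_of_maps_to (g := rem) (t := f.support.image rem) (fun e he => Finset.mem_image_of_mem _ he)]
      refine Finset.sum_congr rfl fun r _ => ?_
      rw [pow_one, sum_pow_char, Finset.sum_mul]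
      refine Finset.sum_congr rfl fun e he => ?_
      obtain ⟨-, rfl⟩ := Finset.mem_filter.mp he
      rw [show mon e = mon (quo e) ^ p * mon (rem e) by rw [← mon_nsmul, ← mon_add, ← hdec]]
      rw [mul_pow, ← pow_mul, ← pow_succ, mul_assoc])
    refine Finsupp.ext fun e => ?_
    by_contra he
    have hes : e ∈ f.support := Finsupp.mem_support_iff.mpr he
    let f' := f.filter fun e' => rem e' = rem e
    have hsub : (f'.support : Set (k →₀ ℕ)) ⊆ {e' | rem e' = rem e} := fun x hx => by
      rw [Finsupp.support_filter] at hx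
      exact (Finset.mem_filter.mp hx).2
    have hinj : Set.InjOn quo {e' | rem e' = rem e} := fun x hx y hy hxy => by
      rw [hdec x, hdec y, hxy, show rem x = rem y from hx.trans hy.symm]
    have h0 := ih (f'.mapDomain quo) (fun d hd => by
      obtain ⟨x, hx, rfl⟩ := Finset.mem_image.mp (Finsupp.mapDomain_support hd)
      rw [Finsupp.support_filter, Finset.mem_filter] at hx
      refine ⟨fun z hz => (hf x hx.1).1 (Finsupp.support_mapRange hz), fun z => ?_⟩
      have := (hf x hx.1).2 z
      rw [pow_succ] at this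
      exact Nat.div_lt_of_lt_mul (by rwa [mul_comm] at this)) (by
      rw [Finsupp.sum_mapDomain_index (fun _ => by simp [hp.ne'])
        (fun _ c c' => by rw [add_pow_char_pow, add_mul])]
      have := DFunLike.congr_fun hh (rem e)
      rw [Finsupp.onFinset_apply, Finsupp.zero_apply] at this
      rw [← this, Finsupp.sum, Finsupp.support_filter]
      refine Finset.sum_congr rfl fun x hx => ?_
      rw [Finsupp.filter_apply, if_pos (Finset.mem_filter.mp hx).2])
    have h1 := DFunLike.congr_fun h0 (quo e)
    rw [Finsupp.mapDomain_apply' _ f' hsub hinj (show e ∈ {e' : k →₀ ℕ | rem e' = rem e} from rfl),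
      Finsupp.filter_apply, if_pos rfl] at h1
    exact he h1

end Groth.Agent.Cohen
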