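import Groth.Agent.Cohen.PBasis

/-!
# The subrings of `W(k^{perf})` cut out by a `p`-basis
-/

set_option autoImplicit false
set_option linter.style.haveILetI false
universe u

open WittVector

namespace Groth.Agent.Cohen

noncomputable section

variable (p : ℕ) [hp : Fact p.Prime] {k : Type u} [Field k] [CharP k p] (B : Set k)

local notation "K" => PerfectClosure k p
local notation "W" => WittVector p (PerfectClosure k p)

/-- The level `n` map of coefficients. -/
def phi (n : ℕ) : WittVector p k →+* W :=
  WittVector.map ((PerfectClosure.of k p).comp (iterateFrobenius k p n))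

section Lift

variable {R : Type u} [CommRing R] (π : R →+* k)

/-- The level `n` map to `W(k^{perf})`. -/
def ev (n : ℕ) : MvPolynomial ↥B (WittVector p R) →+* W :=
  MvPolynomial.eval₂Hom ((phi p n).comp (WittVector.map π))
    (fun b => teichmuller p (PerfectClosure.of k p (b : k)))

/-- The level `n` map to a lift, by the `n`-th ghost component. -/
def evR (β : ↥B → R) (n : ℕ) : MvPolynomial ↥B (WittVector p R) →+* R :=
  MvPolynomial.eval₂Hom (ghostComponent n) β

theorem phi_succ (n : ℕ) (x : WittVector p k) : phi p (n + 1) x = phi p n (WittVector.frobenius x) := by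
  rw [frobenius_eq_map_frobenius]
  ext i
  simp [phi, map_coeff, iterateFrobenius_def, frobenius_def, ← pow_mul, ← pow_succ']

theorem ev_succ (n : ℕ) (F : MvPolynomial ↥B (WittVector p R)) :
    ev p B π (n + 1) F = ev p B π n (MvPolynomial.map WittVector.frobenius F) := by
  unfold ev
  rw [MvPolynomial.eval₂Hom_map_hom]
  congr 2
  refine RingHom.ext fun x => ?_
  simp only [RingHom.comp_apply]
  rw [phi_succ]
  congr 1
  ext i
  rw [map_coeff, coeff_frobenius, coeff_frobenius]
  exact ((MvPolynomial.comp_aeval_apply (fun j => x.coeff j) π.toIntAlgHom _).trans (congrArg (fun f => MvPolynomial.aeval f _) (funext fun j => (map_coeff π x j).symm))).symm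

theorem evR_succ (β : ↥B → R) (n : ℕ) (F : MvPolynomial ↥B (WittVector p R)) :
    evR p B β (n + 1) F = evR p B β n (MvPolynomial.map WittVector.frobenius F) := by
  unfold evR
  rw [MvPolynomial.eval₂Hom_map_hom]
  congr 2
  exact RingHom.ext fun x => (ghostComponent_frobenius n x).symm

theorem phi_verschiebung (n : ℕ) (d : WittVector p k) : phi p (n + 1) (verschiebung d) = p * phi p n d := by
  rw [phi, map_verschiebung, mul_comm, ← verschiebung_frobenius, frobenius_eq_map_frobenius]
  congr 1
  ext i
  simp [phi, map_coeff, iterateFrobenius_def, frobenius_def, ← pow_mul, ← pow_succ, ← map_pow]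

theorem phi_teichmuller (n : ℕ) (a : k) :
    phi p n (teichmuller p a) = teichmuller p (PerfectClosure.of k p a) ^ p ^ n := by
  rw [phi, map_teichmuller, RingHom.comp_apply, iterateFrobenius_def, map_pow, map_pow]

theorem ghost_succ_eq (n : ℕ) (c : WittVector p R) :
    ghostComponent (n + 1) c = c.coeff 0 ^ p ^ (n + 1) + p * ghostComponent n (c.shift 1) := by
  rw [ghostComponent_apply, aeval_wittPolynomial, ghostComponent_apply, aeval_wittPolynomial,
    Finset.sum_range_succ', Finset.mul_sum, add_comm]
  congr 1
  · simp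
  · refine Finset.sum_congr rfl fun i _ => ?_
    rw [shift_coeff, Nat.add_comm 1 i, Nat.succ_sub_succ, pow_succ']
    push_cast
    ring

theorem exists_reduced (β : ↥B → R) (hβ : ∀ b, π (β b) = (b : k)) (n : ℕ)
    (F : MvPolynomial ↥B (WittVector p R)) :
    ∃ G : MvPolynomial ↥B (WittVector p R), (∀ e ∈ G.support, ∀ b, e b < p ^ n) ∧
      ev p B π n F = ev p B π n G ∧ evR p B β n F = evR p B β n G := by
  classical
  induction F using MvPolynomial.induction_on' with
  | monomial e c =>
    let q : ↥B →₀ ℕ := e.mapRange (· / p ^ n) (Nat.zero_div _)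
    let r : ↥B →₀ ℕ := e.mapRange (· % p ^ n) (Nat.zero_mod _)
    have he : e = p ^ n • q + r := Finsupp.ext fun x => by simp [q, r, Nat.div_add_mod]
    refine ⟨MvPolynomial.monomial r (c * q.prod fun b j => teichmuller p (β b) ^ j), fun d hd b => ?_, ?_, ?_⟩
    · obtain rfl := Finset.mem_singleton.mp (MvPolynomial.support_monomial_subset hd)
      exact Nat.mod_lt _ (pow_pos hp.out.pos n)
    · conv_lhs => rw [he]
      simp only [ev, MvPolynomial.eval₂Hom_monomial, RingHom.comp_apply, map_mul, map_finsuppProd, map_pow,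
        map_teichmuller, hβ, phi_teichmuller]
      rw [Finsupp.prod_add_index' (fun _ => pow_zero _) (fun _ _ _ => pow_add _ _ _),
        show (p ^ n • q) = q.mapRange (p ^ n * ·) (mul_zero _) from Finsupp.ext fun x => by simp,
        Finsupp.prod_mapRange_index (fun _ => pow_zero _), mul_assoc]
      simp only [smul_eq_mul, pow_mul]
    · conv_lhs => rw [he]
      simp only [evR, MvPolynomial.eval₂Hom_monomial, map_mul, map_finsuppProd, map_pow, ghostComponent_teichmuller]
      rw [Finsupp.prod_add_index' (fun _ => pow_zero _) (fun _ _ _ => pow_add _ _ _),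
        show (p ^ n • q) = q.mapRange (p ^ n * ·) (mul_zero _) from Finsupp.ext fun x => by simp,
        Finsupp.prod_mapRange_index (fun _ => pow_zero _), mul_assoc]
      simp only [smul_eq_mul, pow_mul]
  | add P Q hP hQ =>
    obtain ⟨G₁, h1, h2, h3⟩ := hP
    obtain ⟨G₂, h4, h5, h6⟩ := hQ
    refine ⟨G₁ + G₂, fun e he b => ?_, by rw [map_add, map_add, h2, h5], by rw [map_add, map_add, h3, h6]⟩
    rcases Finset.mem_union.mp (MvPolynomial.support_add he) with h | h
    · exact h1 e h b
    · exact h4 e h b

variable {B} (hind : ∀ m, Indep p m B)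
include hind

/-- Division by `p` of elements with vanishing residue. -/
theorem exists_div (β : ↥B → R) (hβ : ∀ b, π (β b) = (b : k)) (n : ℕ) (F : MvPolynomial ↥B (WittVector p R))
    (h0 : (ev p B π (n + 1) F).coeff 0 = 0) :
    ∃ H, ev p B π (n + 1) F = p * ev p B π n H ∧
      evR p B β (n + 1) F - p * evR p B β n H ∈ RingHom.ker π ^ (n + 2) := by
  classical
  obtain ⟨G, hG, hG1, hG2⟩ := exists_reduced p B π β hβ (n + 1) F
  let emb : (↥B →₀ ℕ) → (k →₀ ℕ) := fun e => e.mapDomain Subtype.val
  have hemb : Function.Injective emb := Finsupp.mapDomain_injective Subtype.val_injective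
  have hmon : ∀ e : ↥B →₀ ℕ, mon (emb e) = e.prod fun b j => (b : k) ^ j := fun e =>
    Finsupp.prod_mapDomain_index (fun _ => pow_zero _) (fun _ _ _ => pow_add _ _ _)
  let f : (k →₀ ℕ) →₀ k := ∑ e ∈ G.support, Finsupp.single (emb e) (π ((MvPolynomial.coeff e G).coeff 0))
  have hf0 : f.sum (fun e c => c ^ p ^ (n + 1) * mon e) = 0 := by
    rw [← Finsupp.sum_finsetSum_index (fun _ => by simp [hp.out.ne_zero]) (fun _ c c' => by
      rw [add_pow_char_pow, add_mul])]
    apply (PerfectClosure.of k p).injective
    rw [map_zero, map_sum, ← h0, hG1]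
    show _ = constantCoeff (ev p B π (n + 1) G)
    conv_rhs => rw [G.as_sum, map_sum, map_sum]
    refine Finset.sum_congr rfl fun e _ => ?_
    rw [Finsupp.sum_single_index (by simp [hp.out.ne_zero]), hmon]
    simp only [ev, MvPolynomial.eval₂Hom_monomial, map_mul, map_finsuppProd, map_pow]
    congr 1
    show _ = (phi p (n + 1) (WittVector.map π (MvPolynomial.coeff e G))).coeff 0
    simp [phi, map_coeff, iterateFrobenius_def]
  have hf : f = 0 := hind (n + 1) f (fun d hd => by
    obtain ⟨e, he, hde⟩ := Finset.mem_biUnion.mp (Finsupp.support_finsetSum hd)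
    obtain rfl := Finset.mem_singleton.mp (Finsupp.support_single_subset hde)
    refine ⟨fun x hx => ?_, fun x => ?_⟩
    · obtain ⟨b, -, rfl⟩ := Finset.mem_image.mp (Finsupp.mapDomain_support hx)
      exact b.2
    · by_cases hx : x ∈ B
      · rw [show x = ((⟨x, hx⟩ : ↥B) : k) from rfl]
        show e.mapDomain Subtype.val ((⟨x, hx⟩ : ↥B) : k) < _
        rw [Finsupp.mapDomain_apply Subtype.val_injective]
        exact hG e he _
      · show e.mapDomain Subtype.val x < _
        rw [Finsupp.mapDomain_of_notMem_range _ _ (by simpa using hx)]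
        exact pow_pos hp.out.pos _) hf0
  have hc : ∀ e ∈ G.support, π ((MvPolynomial.coeff e G).coeff 0) = 0 := fun e he => by
    have := DFunLike.congr_fun hf (emb e)
    rw [Finsupp.coe_finsetSum, Finset.sum_apply, Finset.sum_eq_single_of_mem e he
      (fun b _ hb => Finsupp.single_eq_of_ne (fun h => hb (hemb h).symm)), Finsupp.single_eq_same] at this
    exact this
  refine ⟨∑ e ∈ G.support, MvPolynomial.monomial e ((MvPolynomial.coeff e G).shift 1), ?_, ?_⟩
  · rw [hG1]
    conv_lhs => rw [G.as_sum]
    rw [map_sum, map_sum, Finset.mul_sum]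
    refine Finset.sum_congr rfl fun e he => ?_
    simp only [ev, MvPolynomial.eval₂Hom_monomial, RingHom.comp_apply]
    rw [← mul_assoc, ← phi_verschiebung]
    congr 2
    have h := eq_iterate_verschiebung (x := WittVector.map π (MvPolynomial.coeff e G)) (n := 1)
      (fun i hi => by
        obtain rfl : i = 0 := by omega
        rw [map_coeff]
        exact hc e he)
    simp only [Function.iterate_one] at h
    rw [h]
    congr 1
  · rw [hG2]
    conv in evR p B β (n + 1) G => rw [G.as_sum]
    rw [map_sum, map_sum, Finset.mul_sum, ← Finset.sum_sub_distrib]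
    refine Submodule.sum_mem _ fun e he => ?_
    simp only [evR, MvPolynomial.eval₂Hom_monomial]
    rw [← mul_assoc, ← sub_mul, ghost_succ_eq, add_sub_cancel_right]
    refine Ideal.mul_mem_right _ _ (Ideal.pow_le_pow_right ?_ (Ideal.pow_mem_pow (RingHom.mem_ker.mpr (hc e he)) _))
    have := Nat.lt_pow_self (n := n + 1) hp.out.one_lt
    omega

/-- Elements of `p^{n+1}W` come from `m^{n+1}`. -/
theorem evR_mem (β : ↥B → R) (hβ : ∀ b, π (β b) = (b : k)) :
    ∀ (n : ℕ) (F : MvPolynomial ↥B (WittVector p R)),
      (p : W) ^ (n + 1) ∣ ev p B π n F → evR p B β n F ∈ RingHom.ker π ^ (n + 1) := by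
  intro n
  induction n with
  | zero =>
    intro F hF
    rw [zero_add, pow_one] at hF ⊢
    rw [RingHom.mem_ker]
    refine (PerfectClosure.of k p).injective ?_
    rw [map_zero]
    have h0 : (ev p B π 0 F).coeff 0 = 0 :=
      (mem_span_p_iff_coeff_zero_eq_zero _).mp (Ideal.mem_span_singleton.mpr hF)
    rw [← h0]
    show ((PerfectClosure.of k p).comp (π.comp (evR p B β 0))) F = (constantCoeff.comp (ev p B π 0)) F
    congr 1
    refine MvPolynomial.ringHom_ext (fun c => ?_) fun b => ?_
    · show (PerfectClosure.of k p) (π (evR p B β 0 (MvPolynomial.C c))) = constantCoeff (ev p B π 0 (MvPolynomial.C c))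
      simp only [ev, evR, MvPolynomial.eval₂Hom_C, RingHom.comp_apply]
      show _ = (phi p 0 (WittVector.map π c)).coeff 0
      simp [phi, map_coeff, iterateFrobenius_def, ghostComponent_apply, aeval_wittPolynomial]
    · show (PerfectClosure.of k p) (π (evR p B β 0 (MvPolynomial.X b))) = constantCoeff (ev p B π 0 (MvPolynomial.X b))
      simp only [ev, evR, MvPolynomial.eval₂Hom_X', hβ]
      rfl
  | succ n ih =>
    intro F hF
    have h0 : (ev p B π (n + 1) F).coeff 0 = 0 :=
      (mem_span_p_iff_coeff_zero_eq_zero _).mp (Ideal.mem_span_singleton.mpr ((dvd_pow_self _ (by omega)).trans hF))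
    obtain ⟨H, hH1, hH2⟩ := exists_div p π hind β hβ n F h0
    rw [hH1, pow_succ', mul_dvd_mul_iff_left (p_nonzero p K)] at hF
    have h1 := ih H hF
    rw [← sub_add_cancel (evR p B β (n + 1) F) (p * evR p B β n H)]
    refine add_mem hH2 ?_
    rw [pow_succ' _ (n + 1)]
    exact Ideal.mul_mem_mul (RingHom.mem_ker.mpr (by rw [map_natCast, CharP.cast_eq_zero])) h1

end Lift

end

end Groth.Agent.Cohen
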